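import Groth.Agent.Cent38.Subgrp
import Groth.Agent.AlgGrp33.TorusBridge
import Groth.Agent.RedPts82.MonoMultClosed

/-!
Open surjective morphisms have quasi-compact local sections on the level of opens.
-/

set_option autoImplicit false
universe u

open CategoryTheory AlgebraicGeometry

namespace Groth.Agent.Cent38

theorem isQcCover_of_isOpenMap {X Y : Scheme.{u}} (g : X ⟶ Y) [Surjective g] (hg : IsOpenMap g.base) :
    Groth.Agent.RedPts82.IsQcCover g := by
  classical
  intro V hV
  have hA : ∀ y : (V : Set Y), ∃ A : X.Opens, IsAffineOpen A ∧ y.1 ∈ g.base '' (A : Set X) ∧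
      g.base '' (A : Set X) ⊆ (V : Set Y) := by
    intro y
    obtain ⟨x, hx⟩ := g.surjective y.1
    obtain ⟨A, hA, hxA, hAV⟩ := exists_isAffineOpen_mem_and_subset (x := x) (U := g ⁻¹ᵁ V)
      (show g x ∈ V from hx ▸ y.2)
    exact ⟨A, hA, ⟨x, hxA, hx⟩, Set.image_subset_iff.mpr hAV⟩
  choose A hA hyA hAV using hA
  obtain ⟨F, hF⟩ := hV.isCompact.elim_finite_subcover (fun y => g.base '' (A y : Set X))
    (fun y => hg _ (A y).2) fun y hy => Set.mem_iUnion.mpr ⟨⟨y, hy⟩, hyA _⟩
  refine ⟨⨆ y ∈ F, A y, ?_, ?_⟩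
  · simp_rw [TopologicalSpace.Opens.coe_iSup]
    exact F.finite_toSet.isCompact_biUnion fun y _ => (hA y).isCompact
  · simp only [TopologicalSpace.Opens.coe_iSup, Set.image_iUnion]
    exact Set.Subset.antisymm (Set.iUnion₂_subset fun y _ => hAV y) hF

end Groth.Agent.Cent38
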