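import Groth.Agent.Cent38.Nhd
import Groth.Agent.Const38.AgreeUnit
import Groth.Agent.RedPts82.EqLocus
import Mathlib.AlgebraicGeometry.Morphisms.Flat

/-!
Over a field, a connected group is fixed by a conjugation which fixes the thickenings of its unit.
-/

set_option autoImplicit false
set_option linter.style.haveILetI false
universe u

open CategoryTheory MonoidalCategory CartesianMonoidalCategory MonObj GrpObj AlgebraicGeometry
open CategoryTheory.Limits
open Groth.Agent.RedPts82

noncomputable section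

namespace Groth.Agent.Cent38

variable {K : Type u} [Field K]

set_option maxHeartbeats 2000000 in
theorem fixed_of_thickenings {G : Over (Spec (CommRingCat.of K))} [GrpObj G] [LocallyOfFiniteType G.hom]
    [ConnectedSpace G.left] {M : Type} [AddCommGroup M] (hM : AddGroup.FG M)
    (j : Red.DS (Spec (CommRingCat.of K)) M ⟶ G) [IsMonHom j] {V : Over (Spec (CommRingCat.of K))} [IsAffine V.left]
    (jV : V ⟶ G) [IsOpenImmersion jV.left] (e₀ : 𝟙_ _ ⟶ V) (he₀ : e₀ ≫ jV = η[G])
    (h : ∀ n : ℕ, Fixed j jV (unitIdeal e₀ ^ (n + 1)) (𝟙_ _))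
    (Y : Over (Spec (CommRingCat.of K))) (t : Y ⟶ Red.DS _ M) (g : Y ⟶ G) :
    CartesianMonoidalCategory.lift t g ≫ conjAct j = g := by
  haveI : IsLocallyNoetherian (Spec (CommRingCat.of K)) := inferInstance
  haveI : LocallyOfFinitePresentation G.hom := inferInstance
  haveI : Flat G.hom := inferInstance
  let T := Red.DS (Spec (CommRingCat.of K)) M
  haveI : LocallyOfFinitePresentation T.hom := lfp_DS_of_fg _ M hM
  haveI : LocallyOfFiniteType (T ⊗ G).hom := by
    show LocallyOfFiniteType (pullback.fst T.hom G.hom ≫ T.hom)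
    infer_instance
  haveI : IsLocallyNoetherian (T ⊗ G).left := LocallyOfFiniteType.isLocallyNoetherian (T ⊗ G).hom
  suffices conjAct j = snd T G by rw [this, lift_snd]
  have hconn : ∀ s, _root_.IsConnected (G.hom.base ⁻¹' {s}) := fun s => by
    have : G.hom.base ⁻¹' {s} = Set.univ :=
      Set.eq_univ_of_forall fun x => Subsingleton.elim (α := PrimeSpectrum K) _ _
    rw [this]
    exact isConnected_univ
  let σ : T ⟶ T ⊗ G := CartesianMonoidalCategory.lift (𝟙 T) 1
  -- agreement near the unit section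
  have hloc : ∀ τ : T.left, ∃ O : (T ⊗ G).left.Opens, σ.left τ ∈ O ∧
      O.ι ≫ (conjAct j).left = O.ι ≫ (snd T G).left := by
    intro τ
    refine Const38.exists_nhd_eq_of_thickenings G.hom _ _ ((Over.w _).trans (Over.w _).symm) _ fun k => ?_
    let x := σ.left τ
    let L := (T ⊗ G).left.presheaf.stalk x
    let Q := L ⧸ IsLocalRing.maximalIdeal L ^ (k + 1)
    let mQ : Spec (CommRingCat.of Q) ⟶ Spec L := Spec.map (CommRingCat.ofHom (Ideal.Quotient.mk _))
    let Yk : Over (Spec (CommRingCat.of K)) := Over.mk ((mQ ≫ (T ⊗ G).left.fromSpecStalk x) ≫ (T ⊗ G).hom)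
    let y₀ : Yk ⟶ T ⊗ G := Over.homMk (mQ ≫ (T ⊗ G).left.fromSpecStalk x) rfl
    have hpt : ∀ z : Yk.left, y₀.left z = x := fun z => by
      have hz : mQ z = IsLocalRing.closedPoint L := by
        refine PrimeSpectrum.ext ((IsLocalRing.maximalIdeal.isMaximal L).eq_of_le ?_ ?_).symm
        · exact (PrimeSpectrum.comap (Ideal.Quotient.mk _) z).isPrime.ne_top
        · intro a ha
          exact (PrimeSpectrum.comap (Ideal.Quotient.mk (IsLocalRing.maximalIdeal L ^ (k + 1))) z).isPrime.mem_of_pow_mem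
            (k + 1) (by
              show Ideal.Quotient.mk _ (a ^ (k + 1)) ∈ z.asIdeal
              rw [Ideal.Quotient.eq_zero_iff_mem.mpr (Ideal.pow_mem_pow ha _)]
              exact zero_mem _)
      show (T ⊗ G).left.fromSpecStalk x (mQ z) = x
      rw [hz, Scheme.fromSpecStalk_closedPoint]
    let g₀ : Yk ⟶ G := y₀ ≫ snd T G
    have hg₀ : ∀ z : Yk.left, g₀.left z = jV.left (e₀.left (T.hom τ)) := fun z => by
      show (snd T G).left (y₀.left z) = _
      rw [hpt]
      show (σ.left ≫ (snd T G).left) τ = _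
      rw [← Over.comp_left, lift_snd, ← unit_comp e₀ jV he₀ T]
      rfl
    let y : Yk ⟶ V := Over.homMk (IsOpenImmersion.lift jV.left g₀.left (by
        rintro _ ⟨z, rfl⟩; exact ⟨_, (hg₀ z).symm⟩)) (by
      rw [← Over.w jV, IsOpenImmersion.lift_fac_assoc, Over.w g₀])
    have hy : y ≫ jV = g₀ := Over.OverMorphism.ext (IsOpenImmersion.lift_fac _ _ _)
    have hy' : ∀ z, y.left z = e₀.left (T.hom τ) := fun z => jV.left.isOpenEmbedding.injective (by
      rw [← hg₀ z, ← hy]; rfl)
    let eQ := (Scheme.ΓSpecIso (CommRingCat.of Q)).commRingCatIsoToRingEquiv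
    let φ : Gam V →+* Q := (eQ : Γ(Spec (CommRingCat.of Q), ⊤) →+* Q).comp y.left.appTop.hom
    have hI : (unitIdeal e₀).map φ ≤ (IsLocalRing.maximalIdeal L).map (Ideal.Quotient.mk _) := by
      refine Ideal.map_le_iff_le_comap.mpr fun a ha => ?_
      obtain ⟨l, hl⟩ := Ideal.Quotient.mk_surjective (φ a)
      show φ a ∈ (IsLocalRing.maximalIdeal L).map (Ideal.Quotient.mk (IsLocalRing.maximalIdeal L ^ (k + 1)))
      rw [← hl]
      refine Ideal.mem_map_of_mem _ ((IsLocalRing.mem_maximalIdeal l).mpr fun hu => ?_)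
      have hu' : IsUnit (y.left.appTop a) := by
        have h1 := (hu.map (Ideal.Quotient.mk (IsLocalRing.maximalIdeal L ^ (k + 1)))).map eQ.symm
        rw [hl] at h1
        simpa [φ] using! h1
      obtain ⟨z₀⟩ : Nonempty (PrimeSpectrum Q) := by
        haveI : Nontrivial Q := Ideal.Quotient.nontrivial_iff.mpr
          (ne_top_of_le_ne_top (IsLocalRing.maximalIdeal.isMaximal L).ne_top (Ideal.pow_le_self (by omega)))
        infer_instance
      have h2 : (z₀ : Yk.left) ∈ y.left ⁻¹ᵁ V.left.basicOpen a := by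
        rw [Scheme.preimage_basicOpen_top, Scheme.basicOpen_of_isUnit _ hu']
        trivial
      have h3 : T.hom τ ∈ e₀.left ⁻¹ᵁ V.left.basicOpen a := by
        show e₀.left (T.hom τ) ∈ V.left.basicOpen a
        rw [← hy' z₀]
        exact h2
      rw [Scheme.preimage_basicOpen_top, show e₀.left.appTop a = 0 from ha, Scheme.basicOpen_zero] at h3
      exact h3
    have hkill : ∀ a ∈ unitIdeal e₀ ^ (k + 1), y.left.appTop a = 0 := by
      intro a ha
      have h1 := Ideal.mem_map_of_mem φ ha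
      rw [Ideal.map_pow] at h1
      have h2 := Ideal.pow_right_mono hI (k + 1) h1
      rw [← Ideal.map_pow, Ideal.map_quotient_self, Submodule.mem_bot] at h2
      exact (map_eq_zero_iff eQ eQ.injective).mp h2
    have h1 := h k Yk (toUnit _) y hkill (y₀ ≫ fst T G)
    rw [hy] at h1
    have h2 : y₀ ≫ conjAct j = y₀ ≫ snd T G := by
      rw [show CartesianMonoidalCategory.lift (y₀ ≫ fst T G) g₀ = y₀ from
        CartesianMonoidalCategory.hom_ext _ _ (lift_fst _ _) (lift_snd _ _)] at h1
      exact h1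
    have h3 := congrArg CommaMorphism.left h2
    simp only [Over.comp_left] at h3
    simpa [y₀, mQ, L] using! h3
  choose O hO hOeq using hloc
  refine Const38.eq_of_agree_near_unit hconn (conjAct j) (snd T G) (fun Z t g g' => ?_) (fun Z t g g' => ?_)
    (⨆ τ, O τ) (fun τ => TopologicalSpace.Opens.mem_iSup.mpr ⟨τ, hO τ⟩) ?_
  · rw [lift_conjAct, lift_conjAct, lift_conjAct]
    simp only [_root_.mul_assoc, inv_mul_cancel_left]
  · rw [lift_snd, lift_snd, lift_snd]
  · refine Scheme.Cover.hom_ext (Scheme.openCoverOfIsOpenCover _ (fun τ => (⨆ τ, O τ).ι ⁻¹ᵁ O τ) ?_) _ _ fun τ => ?_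
    · refine TopologicalSpace.IsOpenCover.mk (eq_top_iff.mpr fun x _ => ?_)
      obtain ⟨i, hi⟩ := TopologicalSpace.Opens.mem_iSup.mp x.2
      exact TopologicalSpace.Opens.mem_iSup.mpr ⟨i, hi⟩
    · show ((⨆ τ, O τ).ι ⁻¹ᵁ O τ).ι ≫ (⨆ τ, O τ).ι ≫ _ = ((⨆ τ, O τ).ι ⁻¹ᵁ O τ).ι ≫ (⨆ τ, O τ).ι ≫ _
      rw [← morphismRestrict_ι_assoc, ← morphismRestrict_ι_assoc, hOeq τ]

end Groth.Agent.Cent38
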