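import Groth.Agent.RedPts82.SubgroupDesc

/-!
Descent of subgroups of multiplicative type whose points are invariant under change of the lift.
-/

set_option autoImplicit false
set_option linter.style.haveILetI false
universe u

open CategoryTheory MonoidalCategory CartesianMonoidalCategory MonObj GrpObj AlgebraicGeometry
open CategoryTheory.Limits
open Groth.Agent Groth.Agent.RedPts82

noncomputable section

namespace Groth.Agent.Cent38

variable {S S' : Scheme.{u}} (π : S' ⟶ S) {G : Over S} [GrpObj G] {H' : Over S'} [GrpObj H']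
  (j' : H' ⟶ Red.bc π G) [IsMonHom j'] [Mono j']

set_option maxHeartbeats 1000000 in
/-- An invariant subgroup of multiplicative type descends along an fpqc cover. -/
theorem exists_descend_invariant [Flat π] [Surjective π] (hqc : IsQcCover π) (hH' : SGA3x.IsMultTypeFT H')
    (hswap : ∀ (Z : Over S) (a b : Z.left ⟶ S') (ha : a ≫ π = Z.hom) (hb : b ≫ π = Z.hom)
      (h : Over.mk a ⟶ H'), ∃ h' : Over.mk b ⟶ H', gpt π j' b hb h' = gpt π j' a ha h) :
    ∃ (H : Over S) (_ : GrpObj H) (j : H ⟶ G), IsMonHom j ∧ Mono j ∧ SGA3x.IsMultTypeFT H ∧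
      (∀ (Z : Over S) (a : Z.left ⟶ S') (ha : a ≫ π = Z.hom) (x : Z ⟶ H),
        ∃ h : Over.mk a ⟶ H', gpt π j' a ha h = x ≫ j) ∧
      (∀ (Z : Over S) (g : Z ⟶ G) (h : Over.mk (pullback.snd Z.hom π) ⟶ H'),
        (gpt π j' (Z := Over.mk (pullback.fst Z.hom π ≫ Z.hom)) (pullback.snd Z.hom π)
          pullback.condition.symm h).left = pullback.fst Z.hom π ≫ g.left → ∃ x : Z ⟶ H, x ≫ j = g) := by
  classical
  haveI := isFpqcMor_of_qcCover π hqc
  let jg : H'.left ⟶ G.left := j'.left ≫ pullback.fst G.hom π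
  have hjg : jg ≫ G.hom = H'.hom ≫ π := by
    simp only [jg, Category.assoc, pullback.condition]
    exact (Category.assoc _ _ _).symm.trans (congrArg (· ≫ π) (Over.w j'))
  have huniq : ∀ {T : Scheme.{u}} {x : T ⟶ S'} (v w : Desc.Lifts H' x), v.1 ≫ jg = w.1 ≫ jg → v = w := by
    intro T x v w e
    refine Subtype.ext ?_
    have h1 : (Over.homMk v.1 v.2 : Over.mk x ⟶ H') = Over.homMk w.1 w.2 :=
      gpt_injective (j' := j') (Z := Over.mk (x ≫ π)) (a := x) (ha := rfl)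
        (Over.OverMorphism.ext (by rw [gpt_left, gpt_left]; exact e))
    exact congrArg Over.Hom.left h1
  have hex : ∀ ⦃T : Scheme.{u}⦄ (x₀ x₁ : T ⟶ S'), x₀ ≫ π = x₁ ≫ π → ∀ v : Desc.Lifts H' x₀,
      ∃ w : Desc.Lifts H' x₁, w.1 ≫ jg = v.1 ≫ jg := by
    intro T x₀ x₁ e v
    obtain ⟨h', hh'⟩ := hswap (Over.mk (x₀ ≫ π)) x₀ x₁ rfl e.symm (Over.homMk v.1 v.2)
    refine ⟨⟨h'.left, Over.w h'⟩, ?_⟩
    have := congrArg Over.Hom.left hh'
    rwa [gpt_left, gpt_left] at this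
  choose sw hsw using hex
  let D : Desc.SchDD π :=
    { obj := H'
      φ := fun T x₀ x₁ h =>
        { toFun := sw x₀ x₁ h
          invFun := sw x₁ x₀ h.symm
          left_inv := fun v => huniq _ _ (by rw [hsw, hsw])
          right_inv := fun v => huniq _ _ (by rw [hsw, hsw]) }
      φ_natural := fun T T' g x₀ x₁ h h' v v' hv' => by
        let w : Desc.Lifts H' (g ≫ x₁) := ⟨g ≫ (sw x₀ x₁ h v).1, by
          rw [Category.assoc, (sw x₀ x₁ h v).2]⟩
        show (sw (g ≫ x₀) (g ≫ x₁) h' v').1 = w.1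
        refine congrArg Subtype.val (huniq _ w ?_)
        rw [hsw, hv']
        simp only [w, Category.assoc, hsw]
      φ_self := fun T x v => huniq _ _ (hsw x x rfl v)
      φ_comp := fun T x₀ x₁ x₂ h h' v => huniq _ _ (by
        show (sw x₁ x₂ h' (sw x₀ x₁ h v)).1 ≫ jg = (sw x₀ x₂ _ v).1 ≫ jg
        rw [hsw, hsw, hsw]) }
  haveI hHaff : IsAffineHom H'.hom := isMultTypeFT_isAffineHom hH'
  haveI : IsAffineHom D.obj.hom := hHaff
  haveI := isAffineHom_isStableUnderBaseChange.{u}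
  obtain ⟨U, π₀, hq⟩ := Desc59.exists_isQuot_iff.mpr
    (Desc59.effective_of_subcovers @IsAffineHom (fun X S p _ _ _ _ D hD => by
      have : IsAffineHom D.obj.hom := hD
      have : IsAffine D.obj.left := isAffine_of_isAffineHom D.obj.hom
      exact Desc59.exists_isQuot_iff.mp (Desc59.exists_isQuot_of_isAffine D))
      π D fun W hW => by
        obtain ⟨X', g, h₁, h₂, h₃⟩ := Desc59.IsFpqcMor.exists_affine_subcover π hW
        exact ⟨X', g, h₁, h₂, h₃, MorphismProperty.pullback_snd _ _ hHaff⟩)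
  have hpb : IsPullback π₀ H'.hom U.hom π := hq.isPullback
  haveI : Flat π₀ := MorphismProperty.of_isPullback (P := @Flat) hpb.flip inferInstance
  haveI : Surjective π₀ := MorphismProperty.of_isPullback (P := @Surjective) hpb.flip inferInstance
  haveI : Desc59.IsFpqcMor π₀ := Desc59.IsFpqcMor.of_isPullback hpb.flip
  haveI : EffectiveEpi π₀ := Desc59.IsFpqcMor.effectiveEpi _
  have hcoeq : ∀ {T : Scheme.{u}} (v w : T ⟶ H'.left), v ≫ π₀ = w ≫ π₀ → v ≫ jg = w ≫ jg := by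
    intro T v w e
    have e1 := hq.lift_θ_eq v w e
    have hcond : (v ≫ H'.hom) ≫ π = (w ≫ H'.hom) ≫ π := by
      rw [Category.assoc, Category.assoc, ← hpb.w, reassoc_of% e]
    have e2 := Desc59.φ_eq D (v ≫ H'.hom) (w ≫ H'.hom) hcond ⟨v, rfl⟩
    have e3 := hsw (v ≫ H'.hom) (w ≫ H'.hom) hcond ⟨v, rfl⟩
    have e4 : (sw (v ≫ H'.hom) (w ≫ H'.hom) hcond ⟨v, rfl⟩).1 = w := e2.trans e1
    rw [e4] at e3
    exact e3.symm
  let d : U.left ⟶ G.left := EffectiveEpi.desc π₀ jg hcoeq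
  have hd : π₀ ≫ d = jg := EffectiveEpi.fac _ _ _
  haveI : Epi π₀ := inferInstance
  let j : U ⟶ G := Over.homMk d (by
    rw [← cancel_epi π₀, ← Category.assoc, hd, hjg, hpb.w])
  -- points of the descended subgroup over a lift to the new base
  have hlift : ∀ {Z : Over S} (a : Z.left ⟶ S') (ha : a ≫ π = Z.hom) (x : Z ⟶ U),
      ∃ h : Over.mk a ⟶ H', gpt π j' a ha h = x ≫ j ∧ h.left ≫ π₀ = x.left := by
    intro Z a ha x
    have hh : x.left ≫ U.hom = a ≫ π := (Over.w x).trans ha.symm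
    refine ⟨Over.homMk (hpb.lift x.left a hh) (hpb.lift_snd _ _ _), Over.OverMorphism.ext ?_,
      hpb.lift_fst _ _ _⟩
    rw [gpt_left, Over.comp_left]
    show _ ≫ jg = x.left ≫ d
    rw [← hd]; exact (Category.assoc _ _ _).symm.trans (congrArg (· ≫ d) (hpb.lift_fst _ _ hh))
  have hto : ∀ {Z : Over S} (a : Z.left ⟶ S') (ha : a ≫ π = Z.hom) (h : Over.mk a ⟶ H'),
      ∃ x : Z ⟶ U, x ≫ j = gpt π j' a ha h := by
    intro Z a ha h
    refine ⟨Over.homMk (h.left ≫ π₀) ?_, Over.OverMorphism.ext ?_⟩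
    · rw [Category.assoc, hpb.w, ← Category.assoc]
      exact (congrArg (· ≫ π) (Over.w h)).trans ha
    · rw [gpt_left, Over.comp_left]
      show (h.left ≫ π₀) ≫ d = _
      rw [Category.assoc, hd]
  let Zc : Over S → Over S := fun Z => Over.mk (pullback.fst Z.hom π ≫ Z.hom)
  let qc : ∀ Z, Zc Z ⟶ Z := fun Z => Over.homMk (pullback.fst Z.hom π) rfl
  have hepi : ∀ Z, Epi (qc Z) := fun Z => by
    haveI : Epi (qc Z).left := Flat.epi_of_flat_of_surjective (pullback.fst Z.hom π)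
    exact (Over.forget S).epi_of_epi_map (f := qc Z) ‹_›
  have hZc : ∀ Z : Over S, pullback.snd Z.hom π ≫ π = (Zc Z).hom := fun Z => pullback.condition.symm
  haveI : Mono j := ⟨fun {Z} x y e => by
    haveI := hepi Z
    rw [← cancel_epi (qc Z)]
    obtain ⟨h₁, e₁, e₁'⟩ := hlift _ (hZc Z) (qc Z ≫ x)
    obtain ⟨h₂, e₂, e₂'⟩ := hlift _ (hZc Z) (qc Z ≫ y)
    have : h₁ = h₂ := gpt_injective (j' := j') (by
      rw [e₁, e₂, Category.assoc, Category.assoc, e])
    apply Over.OverMorphism.ext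
    rw [← e₁', ← e₂', this]⟩
  -- factorisations through `j` are local for the cover
  have hloc : ∀ (Z : Over S) (g : Z ⟶ G), (∃ x : Zc Z ⟶ U, x ≫ j = qc Z ≫ g) →
      ∃ x : Z ⟶ U, x ≫ j = g := by
    rintro Z g ⟨x, hx⟩
    haveI : EffectiveEpi (pullback.fst Z.hom π) := Desc59.IsFpqcMor.effectiveEpi _
    haveI : Epi (pullback.fst Z.hom π) := inferInstance
    have hco : ∀ {T : Scheme.{u}} (t₁ t₂ : T ⟶ pullback Z.hom π),
        t₁ ≫ pullback.fst Z.hom π = t₂ ≫ pullback.fst Z.hom π → t₁ ≫ x.left = t₂ ≫ x.left := by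
      intro T t₁ t₂ e
      let TT : Over S := Over.mk (t₁ ≫ (Zc Z).hom)
      let u₁ : TT ⟶ Zc Z := Over.homMk t₁ rfl
      let u₂ : TT ⟶ Zc Z := Over.homMk t₂ (by
        show t₂ ≫ pullback.fst Z.hom π ≫ Z.hom = t₁ ≫ pullback.fst Z.hom π ≫ Z.hom
        rw [reassoc_of% e])
      have e' : u₁ ≫ x = u₂ ≫ x := by
        rw [← cancel_mono j, Category.assoc, Category.assoc, hx]
        apply Over.OverMorphism.ext
        show t₁ ≫ pullback.fst Z.hom π ≫ g.left = t₂ ≫ pullback.fst Z.hom π ≫ g.left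
        rw [reassoc_of% e]
      exact congrArg Over.Hom.left e'
    let y := EffectiveEpi.desc (pullback.fst Z.hom π) x.left hco
    have hy : pullback.fst Z.hom π ≫ y = x.left := EffectiveEpi.fac _ _ _
    refine ⟨Over.homMk y ?_, Over.OverMorphism.ext ?_⟩
    · rw [← cancel_epi (pullback.fst Z.hom π), reassoc_of% hy]
      exact Over.w x
    · rw [← cancel_epi (pullback.fst Z.hom π), Over.comp_left]
      show _ ≫ y ≫ d = _
      rw [reassoc_of% hy]
      exact congrArg Over.Hom.left hx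
  obtain ⟨hGrp, hjm⟩ := exists_grpObj_mono j
    (fun T => by
      refine hloc T 1 ?_
      obtain ⟨x, hx⟩ := hto (Z := Zc T) (pullback.snd T.hom π) (hZc T) 1
      exact ⟨x, by rw [hx, gpt_one, MonObj.comp_one]⟩)
    (fun T a b => by
      refine hloc T _ ?_
      obtain ⟨ha₁, ea, -⟩ := hlift _ (hZc T) (qc T ≫ a)
      obtain ⟨hb₁, eb, -⟩ := hlift _ (hZc T) (qc T ≫ b)
      obtain ⟨x, hx⟩ := hto _ (hZc T) (ha₁ * hb₁)
      exact ⟨x, by rw [hx, gpt_mul, ea, eb, MonObj.comp_mul, Category.assoc, Category.assoc]⟩)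
    (fun T a => by
      refine hloc T _ ?_
      obtain ⟨ha₁, ea, -⟩ := hlift _ (hZc T) (qc T ≫ a)
      obtain ⟨x, hx⟩ := hto _ (hZc T) ha₁⁻¹
      exact ⟨x, by rw [hx, gpt_inv, ea, GrpObj.comp_inv, Category.assoc]⟩)
  letI := hGrp
  haveI := hjm
  -- the base change
  let e : Red.bc π U ≅ H' := Over.isoMk hpb.isoPullback.symm (hpb.isoPullback_inv_snd)
  have he : e.hom ≫ j' = (Over.pullback π).map j := by
    apply toBase_injective π
    apply Over.OverMorphism.ext
    rw [toBase_left, toBase_left, Over.comp_left, Category.assoc]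
    show hpb.isoPullback.inv ≫ jg = _
    rw [← hd, hpb.isoPullback_inv_fst_assoc]
    exact (pullback.lift_fst _ _ _).symm
  haveI : IsMonHom e.hom := isMonHom_of_points _ fun X x y => by
    rw [← cancel_mono j', MonObj.mul_comp _ _ j', Category.assoc, Category.assoc, Category.assoc, he]
    exact MonObj.mul_comp _ _ _
  refine ⟨U, hGrp, j, hjm, ‹Mono j›, ?_, fun Z a ha x => ?_, fun Z g h hg => ?_⟩
  rotate_left
  · obtain ⟨h, hh, -⟩ := hlift a ha x
    exact ⟨h, hh⟩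
  · obtain ⟨x, hx⟩ := hto (Z := Zc Z) (pullback.snd Z.hom π) (hZc Z) h
    exact hloc Z g ⟨x, hx.trans (Over.OverMorphism.ext hg)⟩
  obtain ⟨S'', f, hf, hs, hqc', hl⟩ := hH'
  refine ⟨S'', f ≫ π, inferInstance, inferInstance, IsQcCover.comp hqc' hqc, fun s'' => ?_⟩
  obtain ⟨W, hW, M, hM, hFG, ⟨ε⟩⟩ := hl s''
  refine ⟨W, hW, M, hM, hFG, ?_⟩
  haveI : IsMonHom ε.inv.hom.hom := ε.inv.hom.isMonHom_hom
  haveI : IsMonHom e.inv := inferInstance
  haveI : IsIso ε.inv.hom.hom := ((Grp.forget _).mapIso ε).isIso_inv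
  obtain ⟨iso'⟩ := exists_grpIso_bc_comp (H := U) π (W.ι ≫ f)
    (ε.inv.hom.hom ≫ (Over.pullback (W.ι ≫ f)).map e.inv)
  exact ⟨by rw [← Category.assoc]; exact iso'⟩

end Groth.Agent.Cent38
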