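import Mathlib.RingTheory.Filtration
import Mathlib.RingTheory.Ideal.MinimalPrime.Colon
import Mathlib.RingTheory.Spectrum.Prime.Defs

/-!
A filtered decreasing family of ideals of a noetherian ring, eventually in every power of every prime after
localisation, is eventually zero.
-/

set_option autoImplicit false
universe u v

namespace Groth.Agent.Cent38

theorem exists_eq_bot_of_krull {A : Type u} [CommRing A] [IsNoetherianRing A] {D : Type v} [Preorder D]
    [IsDirected D (fun a b => a ≤ b)] [Nonempty D] (I : D → Ideal A) (hI : Antitone I)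
    (h : ∀ (P : PrimeSpectrum A) (n : ℕ), ∃ i, ∀ a ∈ I i, ∃ s ∉ P.asIdeal, s * a ∈ P.asIdeal ^ (n + 1)) :
    ∃ i, I i = ⊥ := by
  classical
  -- the annihilators increase
  let ann : D → Ideal A := fun i => Submodule.annihilator (I i)
  obtain ⟨_, ⟨i₀, rfl⟩, hmax⟩ := set_has_maximal_iff_noetherian.mpr (inferInstance : IsNoetherian A A)
    (Set.range ann) (Set.range_nonempty ann)
  refine ⟨i₀, ?_⟩
  by_contra hne
  have hann : ann i₀ ≠ ⊤ := fun e => hne (Submodule.annihilator_eq_top_iff.mp e)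
  obtain ⟨M, hM, hle⟩ := Ideal.exists_le_maximal _ hann
  haveI := hM.isPrime
  obtain ⟨P, hP, -⟩ := Ideal.exists_minimalPrimes_le (J := M) hle
  haveI : P.IsPrime := hP.1.1
  obtain ⟨s, hs, k, hk⟩ : ∃ s ∉ P, ∃ k, Ideal.span {s} * P ^ k ≤ ann i₀ := by
    obtain ⟨k, hk⟩ := (ann i₀).exists_radical_pow_le_of_fg (IsNoetherian.noetherian _)
    let F := ((ann i₀).finite_minimalPrimes_of_isNoetherianRing A).toFinset.erase P
    have hex : ∀ Q ∈ F, ∃ a ∈ Q, a ∉ P := fun Q hQ => by
      obtain ⟨hne, hQ⟩ := Finset.mem_erase.mp hQ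
      rw [Set.Finite.mem_toFinset] at hQ
      by_contra hall
      push Not at hall
      exact hne (le_antisymm hall (hP.2 hQ.1 hall))
    choose! t ht ht' using hex
    let s := ∏ Q ∈ F, t Q
    have hs : s ∉ P := fun hm => by
      obtain ⟨Q, hQ, hQ'⟩ := Ideal.IsPrime.prod_mem_iff.mp hm
      exact ht' Q hQ hQ'
    have hsP : Ideal.span {s} * P ≤ (ann i₀).radical := by
      rw [← Ideal.sInf_minimalPrimes]
      refine le_sInf fun Q hQ => ?_
      by_cases e : Q = P
      · rw [e]; exact Ideal.mul_le_right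
      · refine Ideal.mul_le_left.trans ((Ideal.span_singleton_le_iff_mem _).mpr ?_)
        have hQF : Q ∈ F := Finset.mem_erase.mpr ⟨e, by rwa [Set.Finite.mem_toFinset]⟩
        exact Ideal.mem_of_dvd Q (Finset.dvd_prod_of_mem t hQF) (ht Q hQF)
    refine ⟨s ^ k, fun hm => hs (Ideal.IsPrime.mem_of_pow_mem ‹P.IsPrime› k hm), k, ?_⟩
    rw [← Ideal.span_singleton_pow, ← mul_pow]
    exact (Ideal.pow_right_mono hsP k).trans hk
  obtain ⟨c, hc⟩ := P.exists_pow_inf_eq_pow_smul (I i₀ : Submodule A A)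
  obtain ⟨i, hi⟩ := h ⟨P, inferInstance⟩ (c + k)
  obtain ⟨j, hij, h0j⟩ := exists_ge_ge i i₀
  have heq : ann j = ann i₀ := by
    by_contra e
    exact hmax _ ⟨j, rfl⟩ (lt_of_le_of_ne (Submodule.annihilator_mono (hI h0j)) (Ne.symm e))
  have hkill : ∀ a ∈ I j, ∃ r ∉ P, r * a = 0 := by
    intro a ha
    obtain ⟨r, hr, hra⟩ := hi a (hI hij ha)
    refine ⟨s * r, fun hm => ((inferInstance : P.IsPrime).mem_or_mem hm).elim hs hr, ?_⟩
    have h1 : r * a ∈ P ^ (c + k + 1) • (⊤ : Submodule A A) ⊓ I i₀ :=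
      ⟨by simpa using hra, (I i₀).mul_mem_left r (hI h0j ha)⟩
    rw [hc (c + k + 1) (by omega)] at h1
    have h2 : r * a ∈ P ^ k * I i₀ := by
      have : P ^ (c + k + 1 - c) • (P ^ c • (⊤ : Submodule A A) ⊓ I i₀) ≤ P ^ k * I i₀ :=
        Ideal.mul_mono (Ideal.pow_le_pow_right (by omega)) inf_le_right
      exact this h1
    rw [mul_assoc]
    refine Submodule.mul_induction_on h2 (fun p hp b hb => ?_) fun y z hy hz => by rw [mul_add, hy, hz, add_zero]
    rw [← mul_assoc]
    exact Submodule.mem_annihilator.mp (hk (Ideal.mul_mem_mul (Ideal.mem_span_singleton_self s) hp)) b hb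
  obtain ⟨G, hG⟩ := IsNoetherian.noetherian (I j : Submodule A A)
  choose! r hr hr' using hkill
  have hmem : ∀ b ∈ G, b ∈ I j := fun b hb => hG ▸ Submodule.subset_span hb
  have hprod : ∏ b ∈ G, r b ∈ ann j := by
    refine Submodule.mem_annihilator.mpr fun a ha => ?_
    rw [← hG] at ha
    induction ha using Submodule.span_induction with
    | mem b hb => rw [smul_eq_mul, ← Finset.prod_erase_mul _ _ hb, mul_assoc, hr' b (hmem b hb), mul_zero]
    | zero => exact smul_zero _
    | add y z _ _ hy hz => rw [smul_add, hy, hz, add_zero]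
    | smul t y _ hy => rw [smul_comm, hy, smul_zero]
  rw [heq] at hprod
  obtain ⟨b, hb, hb'⟩ := Ideal.IsPrime.prod_mem_iff.mp (hP.1.2 hprod)
  exact hr b (hmem b hb) hb'

end Groth.Agent.Cent38
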