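import Groth.Agent.Cent38.Thick
import Groth.Agent.RedPts82.RelHom
import Mathlib.RingTheory.Nakayama
import Mathlib.RingTheory.LocalRing.RingHom.Basic

/-!
A morphism from a finite diagonalisable group to a group, trivial over a residue field and rigid along ideals of
square zero killed by the prime, is trivial over the local ring.
-/

set_option autoImplicit false
set_option linter.style.haveILetI false
set_option linter.unusedSectionVars false
universe u

open CategoryTheory MonoidalCategory CartesianMonoidalCategory MonObj GrpObj AlgebraicGeometry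
open CategoryTheory.Limits
open Groth.Agent.RedPts82

noncomputable section

namespace Groth.Agent.Cent38

variable {S : Scheme.{u}} {G : Over S} [GrpObj G]

/-- The morphism is trivial over an object. -/
def TrivOn {M : Type} [AddCommGroup M] (F : Red.DS S M ⟶ G) (Z : Over S) : Prop :=
  ∀ (Y : Over S) (_ : Y ⟶ Z) (t : Y ⟶ Red.DS S M), t ≫ F = 1

theorem TrivOn.of_hom {M : Type} [AddCommGroup M] {F : Red.DS S M ⟶ G} {Z Z' : Over S} (h : TrivOn F Z)
    (f : Z' ⟶ Z) : TrivOn F Z' := fun Y q t => h Y (q ≫ f) t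

/-- Rigidity along ideals of square zero killed by a prime, over its local ring. -/
def Step {M : Type} [AddCommGroup M] (F : Red.DS S M ⟶ G) (p : Ideal Γ(S, ⊤)) : Prop :=
  ∀ (T : Over S) [IsAffine T.left] (J : Ideal (Gam T)), J * J = ⊥ → p.map T.hom.appTop.hom * J = ⊥ →
    (∀ r, r ∉ p → IsUnit (T.hom.appTop r)) → TrivOn F (redObj T J) → TrivOn F T

/-- The affine object of a localisation of the base. -/
theorem exists_loc_obj [IsAffine S] (Mo : Submonoid Γ(S, ⊤)) :
    ∃ (T : Over S) (_ : IsAffine T.left),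
      (letI := T.hom.appTop.hom.toAlgebra; IsLocalization Mo (Gam T)) ∧
      ∀ Z : Over S, (∀ r ∈ Mo, IsUnit (Z.hom.appTop r)) → Nonempty (Z ⟶ T) := by
  let L := CommRingCat.of (Localization Mo)
  let al : Γ(S, ⊤) ⟶ L := CommRingCat.ofHom (algebraMap _ (Localization Mo))
  let T : Over S := Over.mk (Spec.map al ≫ S.isoSpec.inv)
  haveI : IsAffine T.left := inferInstanceAs (IsAffine (Spec L))
  have hT : T.hom.appTop = al ≫ (Scheme.ΓSpecIso L).inv := by
    show (Spec.map al ≫ S.isoSpec.inv).appTop = _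
    rw [Scheme.Hom.comp_appTop, isoSpec_inv_appTop, ← Scheme.ΓSpecIso_inv_naturality]
  refine ⟨T, inferInstance, ?_, fun Z hZ => ?_⟩
  · letI := T.hom.appTop.hom.toAlgebra
    let e : Localization Mo ≃ₐ[Γ(S, ⊤)] Gam T :=
      AlgEquiv.ofRingEquiv (f := (Scheme.ΓSpecIso L).commRingCatIsoToRingEquiv.symm) fun r => by
        show (Scheme.ΓSpecIso L).inv (al r) = T.hom.appTop r
        rw [hT]; rfl
    exact IsLocalization.isLocalization_of_algEquiv Mo e
  · let ψ : L ⟶ Γ(Z.left, ⊤) := CommRingCat.ofHom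
      (IsLocalization.lift (M := Mo) (S := Localization Mo) (g := Z.hom.appTop.hom) fun y => hZ y.1 y.2)
    have hψ : al ≫ ψ = Z.hom.appTop := CommRingCat.hom_ext (IsLocalization.lift_comp _)
    refine ⟨Over.homMk (Z.left.toSpecΓ ≫ Spec.map ψ) ?_⟩
    show (Z.left.toSpecΓ ≫ Spec.map ψ) ≫ Spec.map al ≫ S.isoSpec.inv = Z.hom
    rw [Category.assoc, ← Spec.map_comp_assoc, hψ, ← Scheme.toSpecΓ_naturality_assoc,
      Scheme.toSpecΓ_isoSpec_inv]
    exact Category.comp_id _

/-- A point of a scheme over a field: functions vanishing at it die. -/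
theorem appTop_eq_zero_of_notMem {X : Scheme.{u}} (x : X) (a : Γ(X, ⊤)) (h : x ∉ X.basicOpen a) :
    (X.fromSpecResidueField x).appTop a = 0 := by
  by_contra h0
  have hF : IsField Γ(Spec (X.residueField x), ⊤) :=
    MulEquiv.isField (Field.toIsField (X.residueField x))
      (Scheme.ΓSpecIso _).commRingCatIsoToRingEquiv.toMulEquiv
  letI := hF.toField
  have h1 : IsLocalRing.closedPoint (X.residueField x) ∈
      (X.fromSpecResidueField x) ⁻¹ᵁ X.basicOpen a := by
    rw [Scheme.preimage_basicOpen_top, Scheme.basicOpen_of_isUnit _ (IsUnit.mk0 _ h0)]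
    trivial
  apply h
  have h2 : (X.fromSpecResidueField x) (IsLocalRing.closedPoint (X.residueField x)) ∈ X.basicOpen a := h1
  rwa [Scheme.fromSpecResidueField_apply] at h2

variable [IsAffine S] {M : Type} [AddCommGroup M] {V : Over S} [IsAffine V.left] (e₀ : 𝟙_ (Over S) ⟶ V)
  (jV : V ⟶ G) [IsOpenImmersion jV.left] (he₀ : e₀ ≫ jV = η[G]) (F : Red.DS S M ⟶ G)
  {T : Over S} [IsAffine T.left] (F' : polyDS T M ⟶ V) (hF' : F' ≫ jV = polyTu T M ≫ F)

/-- The coordinates of a morphism into the chart. -/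
def coefMap : Gam V →+* DSRing T M :=
  (polyCoordEquiv T M).symm.toRingHom.comp F'.left.appTop.hom

/-- The ideal of coefficients of the equations of the unit. -/
def coefIdeal : Ideal (Gam T) :=
  Ideal.span {b | ∃ a ∈ unitIdeal e₀, ∃ g, (coefMap F' a).coeff g = b}

omit [IsAffine S] in
include he₀ hF' in
theorem trivial_of_coeff {Z : Over S} (z : Z ⟶ T) (hz : ∀ b ∈ coefIdeal e₀ F', z.left.appTop b = 0)
    (t : Z ⟶ Red.DS S M) : t ≫ F = 1 := by
  obtain ⟨w, hw1, hw2, hw3⟩ := exists_polyLift (M := M) z t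
  have hu : w ≫ F' = toUnit Z ≫ e₀ := eq_unit_of_kills e₀ _ fun a ha => by
    show w.left.appTop (F'.left.appTop a) = 0
    obtain ⟨v, hv⟩ := (polyCoord_bijective T M).2 (F'.left.appTop a)
    rw [← hv, hw3, evalDS_eq_sum]
    refine Finset.sum_eq_zero fun g _ => ?_
    have hvv : coefMap F' a = v := by
      show (polyCoordEquiv T M).symm (F'.left.appTop a) = v
      rw [RingEquiv.symm_apply_eq, polyCoordEquiv_apply, hv]
    dsimp only
    rw [hz (v.coeff g) (Ideal.subset_span ⟨a, ha, g, by rw [hvv]⟩), zero_mul]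
  rw [← hw2, Category.assoc, ← hF', ← Category.assoc, hu, Category.assoc, unit_comp e₀ jV he₀]

omit [IsAffine S] in
include he₀ hF' in
theorem coeff_eq_zero_of_trivial {Z : Over S} [IsAffine Z.left] (z : Z ⟶ T) (hZ : TrivOn F Z) :
    ∀ b ∈ coefIdeal e₀ F', z.left.appTop b = 0 := by
  intro b hb
  suffices coefIdeal e₀ F' ≤ RingHom.ker z.left.appTop.hom from this hb
  refine Ideal.span_le.mpr ?_
  rintro _ ⟨a, ha, g, rfl⟩
  obtain ⟨w, hw1, hw2, hw3⟩ := exists_polyLift (M := M) (polyProj Z M ≫ z) (polyTu Z M)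
  haveI : Mono jV := Over.mono_of_mono_left jV
  have hu : w ≫ F' = toUnit _ ≫ e₀ := by
    rw [← cancel_mono jV, Category.assoc, hF', reassoc_of% hw2, hZ _ (polyProj Z M), Category.assoc,
      unit_comp e₀ jV he₀]
  have h1 : w.left.appTop (F'.left.appTop a) = 0 := by
    show (w ≫ F').left.appTop a = 0
    rw [hu]
    show (toUnit (polyDS Z M)).left.appTop (e₀.left.appTop a) = 0
    rw [show e₀.left.appTop a = 0 from ha, map_zero]
  have h2 : polyCoord T M (coefMap F' a) = F'.left.appTop a := (polyCoordEquiv T M).apply_symm_apply _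
  rw [← h2, hw3, evalDS_comp_map, evalDS_polyTu,
    map_eq_zero_iff _ (polyCoord_bijective Z M).1] at h1
  have h3 := congrArg (fun q => q.coeff g) h1
  simpa [MonoidAlgebra.coeff_mapRingHom] using h3

omit [IsAffine S] in
theorem coefIdeal_fg (hfg : IsNoetherianRing (Gam T) ∨ (unitIdeal e₀).FG) : (coefIdeal e₀ F').FG := by
  classical
  rcases hfg with h | ⟨B, hB⟩
  · exact IsNoetherian.noetherian _
  let C : Finset (Gam T) := B.biUnion fun a => (coefMap F' a).coeff.support.image fun g => (coefMap F' a).coeff g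
  refine ⟨C, le_antisymm (Ideal.span_le.mpr ?_) (Ideal.span_le.mpr ?_)⟩
  · intro b hb
    obtain ⟨a, ha, hb⟩ := Finset.mem_biUnion.mp hb
    obtain ⟨g, -, rfl⟩ := Finset.mem_image.mp hb
    exact Ideal.subset_span ⟨a, hB ▸ Ideal.subset_span ha, g, rfl⟩
  · rintro _ ⟨a, ha, g, rfl⟩
    have hle : unitIdeal e₀ ≤ ((Ideal.span (C : Set (Gam T))).map MonoidAlgebra.singleOneRingHom).comap
        (coefMap F') := by
      rw [← hB, Ideal.span_le]
      intro x hx
      refine (mem_map_single_iff _ _).mpr fun g => ?_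
      by_cases hs : g ∈ (coefMap F' x).coeff.support
      · exact Ideal.subset_span (Finset.mem_biUnion.mpr ⟨x, hx, Finset.mem_image_of_mem _ hs⟩)
      · rw [Finsupp.notMem_support_iff.mp hs]
        exact zero_mem _
    exact (mem_map_single_iff _ _).mp (hle ha) g

omit F' hF' in
include he₀ in
set_option maxHeartbeats 2000000 in
/-- A morphism from a finite diagonalisable group, trivial over the residue field and rigid, is trivial over the
local ring. -/
theorem trivOn_local [Finite M] (p : Ideal Γ(S, ⊤)) [p.IsPrime]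
    (hfg : IsNoetherianRing Γ(S, ⊤) ∨ (unitIdeal e₀).FG) (hstep : Step F p)
    (h0 : ∀ Z : Over S, IsAffine Z.left → p.map Z.hom.appTop.hom = ⊥ →
      (∀ r, r ∉ p → IsUnit (Z.hom.appTop r)) → TrivOn F Z)
    (Z : Over S) (hZ : ∀ r, r ∉ p → IsUnit (Z.hom.appTop r)) : TrivOn F Z := by
  obtain ⟨T, hTaff, hloc, huniv⟩ := exists_loc_obj p.primeCompl
  obtain ⟨f⟩ := huniv Z hZ
  refine TrivOn.of_hom ?_ f
  letI algT := T.hom.appTop.hom.toAlgebra
  haveI : IsLocalization.AtPrime (Gam T) p := hloc
  haveI : IsLocalRing (Gam T) := IsLocalization.AtPrime.isLocalRing (Gam T) p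
  let mT := IsLocalRing.maximalIdeal (Gam T)
  have hmax : p.map T.hom.appTop.hom = mT := IsLocalization.AtPrime.map_eq_maximalIdeal p (Gam T)
  have hunitT : ∀ r, r ∉ p → IsUnit (T.hom.appTop r) := fun r hr =>
    IsLocalization.map_units (Gam T) (⟨r, hr⟩ : p.primeCompl)
  -- the chart
  haveI : Module.Finite (Gam T) (DSRing T M) := Module.Finite.of_basis (MonoidAlgebra.basis _ _)
  haveI : Algebra.IsIntegral (Gam T) (DSRing T M) := Algebra.IsIntegral.of_finite _ _
  let P := polyDS T M
  have hr : Set.range (polyTu T M ≫ F).left.base ⊆ Set.range jV.left.base := by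
    rintro _ ⟨z, rfl⟩
    let zp : PrimeSpectrum (DSRing T M) := z
    obtain ⟨m, hm, hzm⟩ := Ideal.exists_le_maximal _ zp.isPrime.ne_top
    let z' : P.left := (⟨m, hm.isPrime⟩ : PrimeSpectrum (DSRing T M))
    have hsp : z ⤳ z' := (PrimeSpectrum.le_iff_specializes zp ⟨m, hm.isPrime⟩).mp hzm
    have hcomap : m.comap (algebraMap (Gam T) (DSRing T M)) = mT :=
      IsLocalRing.eq_maximalIdeal (Ideal.isMaximal_comap_of_isIntegral_of_isMaximal m)
    let R : Over S := Over.mk (P.left.fromSpecResidueField z' ≫ P.hom)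
    let e : R ⟶ P := Over.homMk (P.left.fromSpecResidueField z') rfl
    have hR : ∀ b : Gam T, b ∈ mT → (e ≫ polyProj T M).left.appTop b = 0 := fun b hb => by
      show e.left.appTop ((polyProj T M).left.appTop b) = 0
      rw [polyProj_appTop]
      refine appTop_eq_zero_of_notMem z' _ ?_
      show z' ∉ (Spec (CommRingCat.of (DSRing T M))).basicOpen
        ((Scheme.ΓSpecIso (CommRingCat.of (DSRing T M))).inv (MonoidAlgebra.single 1 b))
      rw [basicOpen_eq_of_affine]
      intro hn
      apply hn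
      rw [← hcomap] at hb
      simpa [MonoidAlgebra.coe_algebraMap] using hb
    have hRhom : ∀ r, R.hom.appTop r = (e ≫ polyProj T M).left.appTop (T.hom.appTop r) := fun r => by
      rw [← Over.w (e ≫ polyProj T M), Scheme.Hom.comp_appTop]
      rfl
    haveI : IsAffine R.left := inferInstanceAs (IsAffine (Spec _))
    have hR0 : TrivOn F R := h0 R inferInstance
      ((Ideal.map_eq_bot_iff_le_ker _).mpr fun r hr => RingHom.mem_ker.mpr
        ((hRhom r).trans (hR _ (hmax ▸ Ideal.mem_map_of_mem _ hr))))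
      fun r hr => by rw [hRhom]; exact (hunitT r hr).map _
    have h1 := hR0 R (𝟙 R) (e ≫ polyTu T M)
    have he : e.left (IsLocalRing.closedPoint _) = z' := Scheme.fromSpecResidueField_apply z' _
    have h2 : (polyTu T M ≫ F).left z' ∈ Set.range jV.left.base := by
      refine ⟨(toUnit R ≫ e₀).left (IsLocalRing.closedPoint _), ?_⟩
      have h3 : e ≫ polyTu T M ≫ F = toUnit R ≫ e₀ ≫ jV := by
        rw [← Category.assoc, h1, unit_comp e₀ jV he₀]
      have h4 := congrArg (fun k : R ⟶ G => k.left (IsLocalRing.closedPoint _)) h3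
      simp only [Over.comp_left, Scheme.Hom.comp_apply, he] at h4 ⊢
      exact h4.symm
    exact (hsp.map (polyTu T M ≫ F).left.continuous).mem_open jV.left.isOpenEmbedding.isOpen_range h2
  let F' : P ⟶ V := Over.homMk (IsOpenImmersion.lift jV.left (polyTu T M ≫ F).left hr) (by
    rw [← Over.w jV, IsOpenImmersion.lift_fac_assoc, Over.w (polyTu T M ≫ F)])
  have hF' : F' ≫ jV = polyTu T M ≫ F := Over.OverMorphism.ext (IsOpenImmersion.lift_fac _ _ hr)
  let J := coefIdeal e₀ F'
  have hJfg : J.FG := coefIdeal_fg e₀ F' (hfg.imp_left fun h => IsLocalization.isNoetherianRing p.primeCompl (Gam T) h)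
  haveI : IsAffine (redObj T mT).left := inferInstance
  have hJm : J ≤ mT := fun b hb => by
    have hu : ∀ r, (redObj T mT).hom.appTop r = (redMap T mT).left.appTop (T.hom.appTop r) := fun r => by
      rw [← Over.w (redMap T mT), Scheme.Hom.comp_appTop]; rfl
    have h1 := coeff_eq_zero_of_trivial e₀ jV he₀ F F' hF' (redMap T mT) (h0 _ inferInstance
      ((Ideal.map_eq_bot_iff_le_ker _).mpr fun r hr => RingHom.mem_ker.mpr
        ((hu r).trans (redMap_appTop_zero (hmax ▸ Ideal.mem_map_of_mem _ hr))))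
      fun r hr => by rw [hu]; exact (hunitT r hr).map _) b hb
    simpa using (redMap_appTop_eq_iff T mT b 0).mp (h1.trans (map_zero _).symm)
  let T' := redObj T (mT * J)
  let ρ := (redMap T (mT * J)).left.appTop.hom
  let J' : Ideal (Gam T') := J.map ρ
  have hker : (mT * J).map ρ = ⊥ :=
    (Ideal.map_eq_bot_iff_le_ker _).mpr fun b hb => RingHom.mem_ker.mpr (redMap_appTop_zero hb)
  have hT' : ∀ r, T'.hom.appTop r = ρ (T.hom.appTop r) := fun r => by
    rw [← Over.w (redMap T (mT * J)), Scheme.Hom.comp_appTop]; rfl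
  have htriv : TrivOn F (redObj T' J') := fun Y q t =>
    trivial_of_coeff e₀ jV he₀ F F' hF' (q ≫ redMap T' J' ≫ redMap T (mT * J)) (fun b hb => by
      show q.left.appTop ((redMap T' J').left.appTop (ρ b)) = 0
      rw [redMap_appTop_zero (Ideal.mem_map_of_mem _ hb), map_zero]) t
  have hT'triv : TrivOn F T' := by
    refine hstep T' J' (le_bot_iff.mp ?_) (le_bot_iff.mp ?_) (fun r hr => ?_) htriv
    · rw [← Ideal.map_mul, ← hker]
      exact Ideal.map_mono (Ideal.mul_mono_left hJm)
    · rw [show p.map T'.hom.appTop.hom = (p.map T.hom.appTop.hom).map ρ by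
        rw [Ideal.map_map]; congr 1, hmax, ← Ideal.map_mul, hker]

    · rw [hT']; exact (hunitT r hr).map _
  have hJle : J ≤ mT • J := fun b hb => by
    have h1 := coeff_eq_zero_of_trivial e₀ jV he₀ F F' hF' (redMap T (mT * J)) hT'triv b hb
    simpa using (redMap_appTop_eq_iff T (mT * J) b 0).mp (h1.trans (map_zero _).symm)
  have hJ0 : J = ⊥ := Submodule.eq_bot_of_le_smul_of_le_jacobson_bot mT J hJfg hJle
    (IsLocalRing.jacobson_eq_maximalIdeal ⊥ bot_ne_top).ge
  exact fun Y q t => trivial_of_coeff e₀ jV he₀ F F' hF' q (fun b hb => by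
    rw [show coefIdeal e₀ F' = ⊥ from hJ0, Submodule.mem_bot] at hb
    rw [hb, map_zero]) t

end Groth.Agent.Cent38
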