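import Groth.Agent.Cent38.Field
import Groth.Agent.RedPts82.MonoOpen
import Groth.Agent.RedPts82.ImageLoc
import Groth.Agent.RedPts82.Normalizer
import Groth.Agent.RedPts82.ConjTrans

/-!
The points over which a homomorphism from a group of multiplicative type to a group with connected fibres
is central form an open set.
-/

set_option autoImplicit false
set_option linter.style.haveILetI false
universe u

open CategoryTheory MonoidalCategory CartesianMonoidalCategory MonObj GrpObj AlgebraicGeometry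
open CategoryTheory.Limits
open Groth.Agent.RedPts82

noncomputable section

namespace Groth.Agent.Cent38

variable {S : Scheme.{u}}

/-- The homomorphism is central over a scheme over the base. -/
def Cent {T : Scheme.{u}} (φ : T ⟶ S) {H G : Over S} [GrpObj G] (u : H ⟶ G) : Prop :=
  ∀ (X : Over S) (_ : X ⟶ Over.mk φ) (g : X ⟶ G) (h : X ⟶ H), g * (h ≫ u) = (h ≫ u) * g

variable {H G : Over S} [GrpObj G] {u : H ⟶ G}

theorem Cent.of_comp {T T' : Scheme.{u}} {φ : T ⟶ S} {φ' : T' ⟶ S} (hc : Cent φ u) (k : T' ⟶ T)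
    (hk : k ≫ φ = φ') : Cent φ' u := fun X p =>
  hc X (Over.homMk (p.left ≫ k) (by
    show (p.left ≫ k) ≫ φ = X.hom
    rw [Category.assoc, hk]; exact Over.w p))

theorem Cent.descend {T T' : Scheme.{u}} {φ : T ⟶ S} (k : T' ⟶ T) [Flat k] [Surjective k]
    (hc : Cent (k ≫ φ) u) : Cent φ u := by
  intro X p g h
  let X' : Over S := Over.mk (pullback.fst p.left k ≫ X.hom)
  let π : X' ⟶ X := Over.homMk (pullback.fst p.left k) rfl
  let q : X' ⟶ Over.mk (k ≫ φ) := Over.homMk (pullback.snd p.left k) (by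
    show pullback.snd p.left k ≫ k ≫ φ = pullback.fst p.left k ≫ X.hom
    rw [← pullback.condition_assoc]
    exact congrArg (pullback.fst p.left k ≫ ·) (Over.w p))
  haveI : Flat π.left := inferInstanceAs (Flat (pullback.fst p.left k))
  haveI : Surjective π.left := inferInstanceAs (Surjective (pullback.fst p.left k))
  haveI := Flat.epi_of_flat_of_surjective π.left
  haveI : Epi π := Over.epi_of_epi_left π
  rw [← cancel_epi π, MonObj.comp_mul, MonObj.comp_mul, ← Category.assoc]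
  exact hc X' q _ _

theorem cent_residue_iff {W : Scheme.{u}} (φ : W ⟶ S) (w : W) :
    Cent (W.fromSpecResidueField w ≫ φ) u ↔ Cent (S.fromSpecResidueField (φ w)) u := by
  refine ⟨fun h => ?_, fun h => h.of_comp _ (Scheme.Hom.SpecMap_residueFieldMap_fromSpecResidueField φ w)⟩
  letI := (φ.residueFieldMap w).hom.toAlgebra
  haveI : Flat (Spec.map (φ.residueFieldMap w)) := by
    rw [HasRingHomProperty.Spec_iff (P := @Flat)]
    exact (inferInstance : Module.Flat (S.residueField (φ w)) (W.residueField w))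
  haveI : Surjective (Spec.map (φ.residueFieldMap w)) :=
    ⟨fun _ => ⟨default, Subsingleton.elim _ _⟩⟩
  refine Cent.descend (Spec.map (φ.residueFieldMap w)) ?_
  rw [Scheme.Hom.SpecMap_residueFieldMap_fromSpecResidueField]
  exact h

theorem cent_bc_iff {W T : Scheme.{u}} (φ : W ⟶ S) (ψ : T ⟶ W) {D : Over W} (a : D ⟶ Red.bc φ H)
    (hs : ∀ (X : Over W) (h : X ⟶ Red.bc φ H), ∃ t, t ≫ a = h) :
    Cent ψ (a ≫ (Over.pullback φ).map u) ↔ Cent (ψ ≫ φ) u := by
  constructor
  · intro hc X p g h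
    obtain ⟨α, -⟩ := exists_over_iso φ (p.left ≫ ψ) (by rw [Category.assoc]; exact Over.w p)
    obtain ⟨t, ht⟩ := hs _ (ofBase φ (α.hom ≫ h))
    have e := congrArg (toBase φ) (hc _ (Over.homMk p.left rfl) (ofBase φ (α.hom ≫ g)) t)
    rw [toBase_mul, toBase_mul, toBase_ofBase, ← Category.assoc t, ht, toBase_comp_map, toBase_ofBase] at e
    rw [← cancel_epi α.hom, MonObj.comp_mul, MonObj.comp_mul]
    simpa only [Category.assoc] using e
  · intro hc Z q g h
    apply toBase_injective φ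
    rw [toBase_mul, toBase_mul, ← Category.assoc, toBase_comp_map]
    exact hc _ (Over.homMk q.left (by
      show q.left ≫ ψ ≫ φ = Z.hom ≫ φ
      rw [← Category.assoc]; exact congrArg (· ≫ φ) (Over.w q))) _ _

theorem isUnit_appTop {X : Scheme.{u}} (f : Γ(X, ⊤)) (h : X.basicOpen f = ⊤) : IsUnit f := by
  refine RingedSpace.isUnit_of_isUnit_germ _ ⊤ _ (fun x hx => ?_)
  have : x ∈ X.basicOpen f := by rw [h]; trivial
  rwa [Scheme.mem_basicOpen_top] at this

theorem connectedSpace_bc (hconn : ∀ (K : Type u) [Field K] (p : Spec (CommRingCat.of K) ⟶ S),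
      ConnectedSpace ↥(pullback G.hom p)) {W : Scheme.{u}} (φ : W ⟶ S) (K : Type u) [Field K]
    (p : Spec (CommRingCat.of K) ⟶ W) : ConnectedSpace ↥(pullback (Red.bc φ G).hom p) := by
  haveI := hconn K (p ≫ φ)
  let e := (pullbackLeftPullbackSndIso G.hom φ p).inv.homeomorph
  exact connectedSpace_iff_univ.mpr (e.surjective.range_eq ▸ (isConnected_range e.continuous))

set_option maxHeartbeats 2000000 in
/-- The split case with a chart at the unit section. -/
theorem exists_nhd_chart [IsAffine S] {M : Type} [AddCommGroup M] (hM : AddGroup.FG M)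
    [LocallyOfFiniteType G.hom]
    (hconn : ∀ (K : Type u) [Field K] (p : Spec (CommRingCat.of K) ⟶ S), ConnectedSpace ↥(pullback G.hom p))
    (j : Red.DS S M ⟶ G) [IsMonHom j] {V : Over S} [IsAffine V.left] (jV : V ⟶ G) [IsOpenImmersion jV.left]
    (e₀ : 𝟙_ (Over S) ⟶ V) (he₀ : e₀ ≫ jV = η[G]) (w : S) (hw : Cent (S.fromSpecResidueField w) j) :
    ∃ D : S.Opens, w ∈ D ∧ ∀ t, t ∈ D → Cent (S.fromSpecResidueField t) j := by
  haveI : LocallyOfFiniteType V.hom := by rw [← Over.w jV]; infer_instance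
  let p : Ideal Γ(S, ⊤) := (S.isoSpec.hom w : PrimeSpectrum Γ(S, ⊤)).asIdeal
  haveI : p.IsPrime := (S.isoSpec.hom w : PrimeSpectrum Γ(S, ⊤)).isPrime
  obtain ⟨r, hr, hfix⟩ := exists_fixed_nhd e₀ j jV he₀ p (fun Z hZ hkill hunit => by
    intro Y q y _ t
    rw [conjAct_eq_iff]
    haveI := hZ
    refine (hw Y (q ≫ ?_) (y ≫ jV) t).symm
    let ψ : Γ(S, ⊤) →+* Γ(Z.left, ⊤) := Z.hom.appTop.hom
    have hker : p ≤ RingHom.ker ψ := (Ideal.map_eq_bot_iff_le_ker _).mp hkill
    let K := FractionRing (Γ(S, ⊤) ⧸ p)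
    let ρ : Γ(S, ⊤) →+* K := (algebraMap _ _).comp (Ideal.Quotient.mk p)
    let χ : K →+* Γ(Z.left, ⊤) := IsLocalization.lift (M := nonZeroDivisors (Γ(S, ⊤) ⧸ p))
      (g := Ideal.Quotient.lift p ψ hker) (by
        rintro ⟨v, hv⟩
        obtain ⟨r, rfl⟩ := Ideal.Quotient.mk_surjective v
        exact hunit r fun hr => nonZeroDivisors.ne_zero hv (Ideal.Quotient.eq_zero_iff_mem.mpr hr))
    have hχ : χ.comp ρ = ψ := by
      rw [← RingHom.comp_assoc, IsLocalization.lift_comp, Ideal.Quotient.lift_comp_mk]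
    let gK : Spec (CommRingCat.of K) ⟶ S := Spec.map (CommRingCat.ofHom ρ) ≫ S.isoSpec.inv
    have hgK : gK (IsLocalRing.closedPoint K) = w := by
      have e1 : Spec.map (CommRingCat.ofHom ρ) (IsLocalRing.closedPoint K) = S.isoSpec.hom w := by
        refine PrimeSpectrum.ext (Ideal.ext fun a => ?_)
        show ρ a ∈ IsLocalRing.maximalIdeal K ↔ a ∈ p
        rw [IsLocalRing.maximalIdeal_eq_bot, Ideal.mem_bot]
        show algebraMap (Γ(S, ⊤) ⧸ p) K (Ideal.Quotient.mk p a) = 0 ↔ _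
        rw [map_eq_zero_iff _ (IsFractionRing.injective _ _), Ideal.Quotient.eq_zero_iff_mem]
      show (Spec.map (CommRingCat.ofHom ρ) ≫ S.isoSpec.inv) _ = w
      rw [Scheme.Hom.comp_apply, e1, ← Scheme.Hom.comp_apply, Iso.hom_inv_id]
      rfl
    have hgK' : ∃ k : Spec (CommRingCat.of K) ⟶ Spec (S.residueField w), k ≫ S.fromSpecResidueField w = gK := by
      have h := (Scheme.SpecToEquivOfField K S).symm_apply_apply gK
      obtain ⟨⟨s, f⟩, hs⟩ : ∃ x, x = Scheme.SpecToEquivOfField K S gK := ⟨_, rfl⟩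
      have hsw : s = w := (congrArg Sigma.fst hs).trans hgK
      rw [← hs] at h
      subst hsw
      exact ⟨Spec.map f, h⟩
    choose k hk using hgK'
    exact Over.homMk (Z.left.toSpecΓ ≫ Spec.map (CommRingCat.ofHom χ) ≫ k) (by
      show (Z.left.toSpecΓ ≫ Spec.map (CommRingCat.ofHom χ) ≫ k) ≫ S.fromSpecResidueField w = Z.hom
      rw [Category.assoc, Category.assoc, hk]
      show _ ≫ _ ≫ Spec.map (CommRingCat.ofHom ρ) ≫ _ = _
      rw [← Spec.map_comp_assoc, ← CommRingCat.ofHom_comp, hχ]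
      simp only [ψ, CommRingCat.ofHom_hom, ← Scheme.toSpecΓ_naturality_assoc, Scheme.toSpecΓ_isoSpec_inv]
      exact Category.comp_id _))
  refine ⟨S.basicOpen r, ?_, fun t ht => ?_⟩
  · rw [← Scheme.toSpecΓ_preimage_basicOpen]
    exact hr
  let R := Spec (CommRingCat.of (S.residueField t))
  let ψ : R ⟶ S := S.fromSpecResidueField t
  have hψ : IsUnit (ψ.appTop r) := isUnit_appTop _ (by
    rw [← Scheme.preimage_basicOpen_top, eq_top_iff]
    intro z _
    show ψ z ∈ S.basicOpen r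
    rw [Scheme.fromSpecResidueField_apply]
    exact ht)
  obtain ⟨a, ha, hi, -⟩ := exists_ds_bc ψ M
  haveI := ha
  haveI := hi
  let VK : Over R := (Over.pullback ψ).obj V
  haveI : IsAffine VK.left := by
    show IsAffine (pullback V.hom ψ)
    infer_instance
  haveI : LocallyOfFiniteType (Red.bc ψ G).hom :=
    MorphismProperty.pullback_snd (P := @LocallyOfFiniteType) _ _ ‹_›
  haveI : ConnectedSpace (Red.bc ψ G).left := hconn _ ψ
  haveI : IsOpenImmersion ((Over.pullback ψ).map jV).left :=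
    MorphismProperty.baseChange_map ψ jV inferInstance
  let eK : 𝟙_ (Over R) ⟶ VK := ofBase ψ (toUnit _ ≫ e₀)
  have heK : eK ≫ (Over.pullback ψ).map jV = η[Red.bc ψ G] := by
    refine toBase_injective ψ ?_
    rw [toBase_comp_map, toBase_ofBase, Category.assoc, unit_comp e₀ jV he₀, MonObj.one_eq_one, toBase_one]
  have key : ∀ n : ℕ, Fixed (a ≫ (Over.pullback ψ).map j) ((Over.pullback ψ).map jV) (unitIdeal eK ^ (n + 1))
      (𝟙_ _) := by
    intro n Y _ y hy t'
    rw [conjAct_eq_iff]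
    apply toBase_injective ψ
    rw [toBase_mul, toBase_mul, toBase_comp_map, ← Category.assoc, toBase_comp_map]
    rw [← conjAct_eq_iff]
    refine hfix n _ ?_ _ (𝟙 _) _ (fun b hb => ?_) _
    · show IsUnit ((Y.hom ≫ ψ).appTop r)
      rw [Scheme.Hom.comp_appTop]
      exact hψ.map Y.hom.appTop.hom
    rw [toBase_left, Scheme.Hom.comp_appTop]
    refine hy _ ?_
    have hle : (unitIdeal e₀).map (pullback.fst V.hom ψ).appTop.hom ≤ unitIdeal eK := by
      refine Ideal.map_le_iff_le_comap.mpr fun c hc => ?_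
      show eK.left.appTop ((pullback.fst V.hom ψ).appTop c) = 0
      show (eK.left ≫ pullback.fst V.hom ψ).appTop c = 0
      rw [← toBase_left, toBase_ofBase, Over.comp_left, Scheme.Hom.comp_appTop]
      show (toUnit ((Over.map ψ).obj (𝟙_ (Over R)))).left.appTop (e₀.left.appTop c) = 0
      rw [show e₀.left.appTop c = 0 from hc, map_zero]
    have := Ideal.mem_map_of_mem (pullback.fst V.hom ψ).appTop.hom hb
    rw [Ideal.map_pow] at this
    exact Ideal.pow_right_mono hle _ this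
  have h1 := (cent_bc_iff (G := G) (u := j) ψ (𝟙 R) a
    (fun X h => ⟨h ≫ inv a, by rw [Category.assoc, IsIso.inv_hom_id, Category.comp_id]⟩)).mp fun X _ g h =>
    ((conjAct_eq_iff (H := Red.bc ψ G) (a ≫ (Over.pullback ψ).map j) h g).mp (fixed_of_thickenings (G := Red.bc ψ G) hM (a ≫ (Over.pullback ψ).map j)
      ((Over.pullback ψ).map jV) eK heK key X h g)).symm
  rwa [Category.id_comp] at h1

set_option maxHeartbeats 2000000 in
/-- The split case. -/
theorem exists_nhd_split [IsAffine S] {M : Type} [AddCommGroup M] (hM : AddGroup.FG M)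
    [LocallyOfFiniteType G.hom]
    (hconn : ∀ (K : Type u) [Field K] (p : Spec (CommRingCat.of K) ⟶ S), ConnectedSpace ↥(pullback G.hom p))
    (j : Red.DS S M ⟶ G) [IsMonHom j] (w : S) (hw : Cent (S.fromSpecResidueField w) j) :
    ∃ D : S.Opens, w ∈ D ∧ ∀ t, t ∈ D → Cent (S.fromSpecResidueField t) j := by
  let e : S ⟶ G.left := η[G].left
  obtain ⟨U, hU, hwU, -⟩ := exists_isAffineOpen_mem_and_subset (x := e w) (U := (⊤ : G.left.Opens)) trivial
  obtain ⟨W, hW, hwW, hWU⟩ := exists_isAffineOpen_mem_and_subset (x := w) (U := e ⁻¹ᵁ U) hwU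
  haveI : IsAffine (W : Scheme.{u}) := hW
  let ψ := W.ι
  let U' : Over S := Over.mk (U.ι ≫ G.hom)
  let jU : U' ⟶ G := Over.homMk U.ι rfl
  haveI : IsAffine U'.left := hU
  haveI : IsOpenImmersion jU.left := inferInstanceAs (IsOpenImmersion U.ι)
  haveI : IsOpenImmersion ((Over.pullback ψ).map jU).left :=
    MorphismProperty.baseChange_map ψ jU inferInstance
  haveI : IsAffine ((Over.pullback ψ).obj U').left := by
    show IsAffine (pullback U'.hom ψ)
    infer_instance
  haveI : LocallyOfFiniteType (Red.bc ψ G).hom :=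
    MorphismProperty.pullback_snd (P := @LocallyOfFiniteType) _ _ ‹_›
  have hr : Set.range (W.ι ≫ e).base ⊆ Set.range U.ι.base := by
    rintro _ ⟨z, rfl⟩
    rw [Scheme.Opens.range_ι]
    exact hWU z.2
  let eU : (Over.map ψ).obj (𝟙_ (Over (W : Scheme.{u}))) ⟶ U' :=
    Over.homMk (IsOpenImmersion.lift U.ι (W.ι ≫ e) hr) (by
      show IsOpenImmersion.lift U.ι (W.ι ≫ e) hr ≫ U.ι ≫ G.hom = 𝟙 _ ≫ ψ
      rw [IsOpenImmersion.lift_fac_assoc, Category.assoc, show e ≫ G.hom = 𝟙 S from Over.w η[G]]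
      exact (Category.comp_id _).trans (Category.id_comp _).symm)
  obtain ⟨a, ha, hi, -⟩ := exists_ds_bc ψ M
  haveI := ha
  haveI := hi
  have hs : ∀ (X : Over (W : Scheme.{u})) (h : X ⟶ Red.bc ψ (Red.DS S M)), ∃ t, t ≫ a = h :=
    fun X h => ⟨h ≫ inv a, by rw [Category.assoc, IsIso.inv_hom_id, Category.comp_id]⟩
  have heU : ofBase ψ eU ≫ (Over.pullback ψ).map jU = η[Red.bc ψ G] := by
    refine toBase_injective ψ ?_
    rw [toBase_comp_map, toBase_ofBase, MonObj.one_eq_one, toBase_one, Hom.one_def]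
    refine Over.OverMorphism.ext ?_
    show IsOpenImmersion.lift U.ι (W.ι ≫ e) hr ≫ U.ι = _
    rw [IsOpenImmersion.lift_fac, Over.comp_left]
    congr 1
  obtain ⟨D, hwD, hD⟩ := exists_nhd_chart hM (connectedSpace_bc hconn ψ) (a ≫ (Over.pullback ψ).map j)
    ((Over.pullback ψ).map jU) (ofBase ψ eU) heU ⟨w, hwW⟩
    ((cent_bc_iff ψ _ a hs).mpr ((cent_residue_iff ψ (⟨w, hwW⟩ : W)).mpr hw))
  refine ⟨W.ι ''ᵁ D, ⟨⟨w, hwW⟩, hwD, rfl⟩, ?_⟩
  rintro _ ⟨t, ht, rfl⟩
  exact (cent_residue_iff ψ t).mp ((cent_bc_iff ψ _ a hs).mp (hD t ht))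

set_option maxHeartbeats 2000000 in
/-- The points over which a homomorphism from a group of multiplicative type of finite type into a group
with connected fibres is central form an open set. -/
theorem isOpen_centLocus {H G : Over S} [GrpObj H] [GrpObj G] (hH : SGA3x.IsMultTypeFT H)
    [LocallyOfFiniteType G.hom]
    (hconn : ∀ (K : Type u) [Field K] (p : Spec (CommRingCat.of K) ⟶ S), ConnectedSpace ↥(pullback G.hom p))
    (u : H ⟶ G) [IsMonHom u] : IsOpen {s : S | Cent (S.fromSpecResidueField s) u} := by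
  obtain ⟨S', f, hf, hsf, hqc, hloc⟩ := hH
  haveI := hf
  refine isOpen_of_preimage f hqc (isOpen_iff_forall_mem_open.mpr fun p hp => ?_)
  obtain ⟨U, hpU, M, _, hM, ⟨e⟩⟩ := hloc p
  obtain ⟨V, hV, hpV, hVU⟩ := exists_isAffineOpen_mem_and_subset hpU
  haveI : IsAffine (V : Scheme.{u}) := hV
  obtain ⟨a, ha, -, hsa⟩ := exists_ds_cover_mono (S'.homOfLE (show V ≤ U from hVU)) (U.ι ≫ f)
    (V.ι ≫ f) (by simp) e
  let φ := V.ι ≫ f
  haveI : LocallyOfFiniteType (Red.bc φ G).hom :=
    MorphismProperty.pullback_snd (P := @LocallyOfFiniteType) _ _ ‹_›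
  have key : ∀ v : V, Cent ((V : Scheme.{u}).fromSpecResidueField v) (a ≫ (Over.pullback φ).map u) ↔
      Cent (S.fromSpecResidueField (f v.1)) u := fun v =>
    (cent_bc_iff φ _ a hsa).trans (cent_residue_iff φ v)
  obtain ⟨D, hpD, hD⟩ := exists_nhd_split hM (connectedSpace_bc hconn φ) (a ≫ (Over.pullback φ).map u)
    ⟨p, hpV⟩ ((key ⟨p, hpV⟩).mpr hp)
  refine ⟨V.ι '' (D : Set (V : Scheme.{u})), ?_, V.ι.isOpenEmbedding.isOpenMap _ D.2,
    ⟨⟨p, hpV⟩, hpD, rfl⟩⟩
  rintro _ ⟨v, hv, rfl⟩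
  exact (key v).mp (hD v hv)

end Groth.Agent.Cent38
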