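import Groth.Agent.Cent38.Thick
import Mathlib.LinearAlgebra.Matrix.Charpoly.LinearMap

/-!
Triviality of the conjugation on the first order thickening spreads to a neighbourhood, and then to all
thickenings.
-/

set_option autoImplicit false
set_option linter.style.haveILetI false
universe u

open CategoryTheory MonoidalCategory CartesianMonoidalCategory MonObj GrpObj AlgebraicGeometry
open CategoryTheory.Limits
open Groth.Agent.RedPts82

noncomputable section

namespace Groth.Agent.Cent38

/-- A finitely generated module contained in its multiple by a prime after multiplying by an element outside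
the prime is killed by an element outside the prime. -/
theorem exists_kill {R : Type u} [CommRing R] (p : Ideal R) [p.IsPrime] (N : Type u) [AddCommGroup N] [Module R N]
    [Module.Finite R N] (r : R) (hr : r ∉ p) (h : ∀ x : N, r • x ∈ p • (⊤ : Submodule R N)) :
    ∃ r' ∉ p, ∀ x : N, r' • x = 0 := by
  obtain ⟨q, hmon, -, hq, hev⟩ :=
    LinearMap.exists_monic_and_natDegree_eq_and_coeff_mem_pow_and_aeval_eq_zero R
      (algebraMap R (Module.End R N) r) p (by rintro _ ⟨x, rfl⟩; exact h x)
  rw [Polynomial.aeval_algebraMap_apply] at hev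
  refine ⟨q.eval r, fun hm => ?_, fun x => ?_⟩
  · have h1 : q.map (Ideal.Quotient.mk p) = Polynomial.X ^ q.natDegree := by
      ext k
      rw [Polynomial.coeff_map, Polynomial.coeff_X_pow]
      by_cases hk : k = q.natDegree
      · rw [if_pos hk, hk, hmon.coeff_natDegree, map_one]
      · rw [if_neg hk]
        rcases lt_or_gt_of_ne hk with h2 | h2
        · exact Ideal.Quotient.eq_zero_iff_mem.mpr (Ideal.pow_le_self (by omega) (hq k))
        · rw [Polynomial.coeff_eq_zero_of_natDegree_lt h2, map_zero]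
    have h2 : Ideal.Quotient.mk p (q.eval r) = (Ideal.Quotient.mk p r) ^ q.natDegree := by
      rw [← Polynomial.eval₂_at_apply, ← Polynomial.eval_map, h1, Polynomial.eval_pow, Polynomial.eval_X]
    rw [Ideal.Quotient.eq_zero_iff_mem.mpr hm] at h2
    exact hr (Ideal.Quotient.eq_zero_iff_mem.mp (eq_zero_of_pow_eq_zero h2.symm))
  · have h3 := congrArg (fun f : Module.End R N => f x) hev
    simpa [Polynomial.aeval_def] using h3

variable {S : Scheme.{u}} {G : Over S} [GrpObj G] {M : Type} [AddCommGroup M] {V : Over S} [IsAffine V.left]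
  (e₀ : 𝟙_ (Over S) ⟶ V) [IsAffine S] (j : Red.DS S M ⟶ G) [IsMonHom j] (jV : V ⟶ G) [IsOpenImmersion jV.left]
  (he₀ : e₀ ≫ jV = η[G])

/-- The first order thickening of the unit section is finite over the base. -/
theorem exists_gens [LocallyOfFiniteType V.hom] :
    ∃ F : Finset (Gam V), ∀ a : Gam V, ∃ f : Gam V → Γ(S, ⊤),
      a - ∑ x ∈ F, V.hom.appTop (f x) * x ∈ unitIdeal e₀ ^ 2 := by
  classical
  letI algV : Algebra Γ(S, ⊤) (Gam V) := V.hom.appTop.hom.toAlgebra
  let ε : Gam V →ₐ[Γ(S, ⊤)] Γ(S, ⊤) :=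
    { e₀.left.appTop.hom with
      commutes' := fun r => by
        show (e₀.left ≫ V.hom).appTop r = r
        rw [Over.w e₀]
        rfl }
  obtain ⟨T, hT⟩ : (⊤ : Subalgebra Γ(S, ⊤) (Gam V)).FG :=
    ((HasRingHomProperty.iff_of_isAffine (P := @LocallyOfFiniteType)).mp
      ‹LocallyOfFiniteType V.hom› : Algebra.FiniteType Γ(S, ⊤) (Gam V)).out
  let F : Finset (Gam V) := insert 1 (T.image fun t => t - algebraMap _ _ (ε t))
  let J : Submodule Γ(S, ⊤) (Gam V) := Submodule.span Γ(S, ⊤) (F : Set (Gam V)) ⊔ (unitIdeal e₀ ^ 2).restrictScalars _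
  have hI : ∀ a, a - algebraMap _ _ (ε a) ∈ unitIdeal e₀ := fun a => by
    show ε (a - algebraMap _ _ (ε a)) = 0
    rw [map_sub, ε.commutes, Algebra.algebraMap_self, RingHom.id_apply, sub_self]
  have hall : ∀ a, a - algebraMap _ _ (ε a) ∈ J := by
    intro a
    have ha : a ∈ Algebra.adjoin Γ(S, ⊤) (T : Set (Gam V)) := by rw [hT]; trivial
    induction ha using Algebra.adjoin_induction with
    | mem b hb =>
      exact Submodule.mem_sup_left (Submodule.subset_span
        (Finset.mem_insert_of_mem (Finset.mem_image.mpr ⟨b, hb, rfl⟩)))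
    | algebraMap r => rw [ε.commutes, Algebra.algebraMap_self, RingHom.id_apply, sub_self]; exact zero_mem _
    | add b b' _ _ h1 h2 => rw [map_add, map_add, add_sub_add_comm]; exact add_mem h1 h2
    | mul b b' _ _ h1 h2 =>
      rw [show b * b' - algebraMap _ _ (ε (b * b')) = (b - algebraMap _ _ (ε b)) * (b' - algebraMap _ _ (ε b')) +
        (ε b • (b' - algebraMap _ _ (ε b')) + ε b' • (b - algebraMap _ _ (ε b))) by
          rw [map_mul, map_mul, Algebra.smul_def, Algebra.smul_def]; ring]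
      refine add_mem (Submodule.mem_sup_right ?_) (add_mem (J.smul_mem _ h2) (J.smul_mem _ h1))
      show _ ∈ unitIdeal e₀ ^ 2
      rw [pow_two]
      exact Ideal.mul_mem_mul (hI b) (hI b')
  refine ⟨F, fun a => ?_⟩
  have h1 : a ∈ J := by
    rw [← sub_add_cancel a (algebraMap _ _ (ε a))]
    refine add_mem (hall a) (Submodule.mem_sup_left ?_)
    rw [Algebra.algebraMap_eq_smul_one]
    exact Submodule.smul_mem _ _ (Submodule.subset_span (Finset.mem_insert_self _ _))
  obtain ⟨y, hy, z, hz, rfl⟩ := Submodule.mem_sup.mp h1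
  obtain ⟨f, -, hf⟩ := Submodule.mem_span_finset.mp hy
  refine ⟨f, ?_⟩
  have : ∑ x ∈ F, V.hom.appTop (f x) * x = y := by
    rw [← hf]
    exact Finset.sum_congr rfl fun x _ => (Algebra.smul_def (f x) x).symm
  rw [this, add_sub_cancel_left]
  exact hz

omit [IsMonHom j] in
set_option maxHeartbeats 2000000 in
/-- Near a fibre on which the conjugation fixes the first order thickening, a single element kills the
components of non-zero degree. -/
theorem exists_kill_comp [LocallyOfFiniteType V.hom] (p : Ideal Γ(S, ⊤)) [p.IsPrime]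
    (hp : ∀ Z : Over S, IsAffine Z.left → p.map Z.hom.appTop.hom = ⊥ →
      (∀ r, r ∉ p → IsUnit (Z.hom.appTop r)) → Fixed j jV (unitIdeal e₀ ^ 2) Z)
    (c : polyDS (redObj V (unitIdeal e₀ ^ 2)) M ⟶ redObj V (unitIdeal e₀ ^ 2))
    (hc : c ≫ redMap V _ ≫ jV =
      CartesianMonoidalCategory.lift (polyTu _ M) (polyProj _ M ≫ redMap V _ ≫ jV) ≫ conjAct j)
    (hassoc : ∀ (mm qq : polyDS (polyDS (redObj V (unitIdeal e₀ ^ 2)) M) M ⟶ polyDS (redObj V (unitIdeal e₀ ^ 2)) M)
        (L : polyDS (polyDS (redObj V (unitIdeal e₀ ^ 2)) M) M ⟶ polyDS (redObj V (unitIdeal e₀ ^ 2)) M),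
        mm ≫ polyProj _ M = polyProj _ M ≫ polyProj _ M →
        mm ≫ polyTu _ M = polyTu _ M * (polyProj _ M ≫ polyTu _ M) →
        L ≫ polyProj _ M = polyProj _ M ≫ c → L ≫ polyTu _ M = polyTu _ M →
        L ≫ c = mm ≫ c) :
    ∃ r ∉ p, ∀ (g : Multiplicative M), g ≠ 1 → ∀ a,
      (redObj V (unitIdeal e₀ ^ 2)).hom.appTop r * comp' c g a = 0 := by
  classical
  haveI := mono_redMap (unitIdeal e₀ ^ 2)
  haveI : Mono jV := Over.mono_of_mono_left jV
  let X := redObj V (unitIdeal e₀ ^ 2)
  let m : X ⟶ V := redMap V _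
  letI algX : Algebra Γ(S, ⊤) (Gam X) := X.hom.appTop.hom.toAlgebra
  let ℓ : Multiplicative M → Gam X →ₗ[Γ(S, ⊤)] Gam X := fun g =>
    { toFun := comp' c g
      map_add' := map_add _
      map_smul' := fun r a => by
        rw [Algebra.smul_def, Algebra.smul_def, RingHom.id_apply]
        exact comp'_base_mul c r a g }
  obtain ⟨F, hF⟩ := exists_gens e₀ (V := V)
  let B : Finset (Gam X) := F.image fun a => m.left.appTop a
  have hB : Submodule.span Γ(S, ⊤) (B : Set (Gam X)) = ⊤ := by
    refine eq_top_iff.mpr fun b _ => ?_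
    obtain ⟨a, rfl⟩ := redMap_surjective' (unitIdeal e₀ ^ 2) b
    obtain ⟨f, hf⟩ := hF a
    have h0 : m.left.appTop a = ∑ x ∈ F, f x • m.left.appTop x := by
      rw [← sub_eq_zero]
      refine Eq.trans ?_ (redMap_appTop_zero hf)
      show _ = m.left.appTop _
      rw [map_sub, map_sum]
      congr 1
      refine Finset.sum_congr rfl fun x _ => ?_
      rw [Algebra.smul_def, map_mul]
      congr 1
    show m.left.appTop a ∈ _
    rw [h0]
    exact Submodule.sum_mem _ fun x hx => Submodule.smul_mem _ _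
      (Submodule.subset_span (Finset.mem_image_of_mem _ hx))
  let Fc : Finset (Gam X) := B.biUnion fun b => ((co c b).coeff.support.erase 1).image fun g => comp' c g b
  let N : Submodule Γ(S, ⊤) (Gam X) := Submodule.span Γ(S, ⊤) (Fc : Set (Gam X))
  have hN : ∀ g, g ≠ 1 → ∀ a, ℓ g a ∈ N := by
    intro g hg a
    have ha : a ∈ Submodule.span Γ(S, ⊤) (B : Set (Gam X)) := by rw [hB]; trivial
    induction ha using Submodule.span_induction with
    | mem b hb =>
      by_cases hs : g ∈ (co c b).coeff.support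
      · exact Submodule.subset_span (Finset.mem_biUnion.mpr ⟨b, hb,
          Finset.mem_image.mpr ⟨g, Finset.mem_erase.mpr ⟨hg, hs⟩, rfl⟩⟩)
      · rw [show ℓ g b = 0 from Finsupp.notMem_support_iff.mp hs]
        exact zero_mem _
    | zero => rw [map_zero]; exact zero_mem _
    | add x y _ _ hx hy => rw [map_add]; exact add_mem hx hy
    | smul r x _ hx => rw [map_smul]; exact N.smul_mem r hx
  -- the fibre at `p`
  let pX : Ideal (Gam X) := p.map X.hom.appTop.hom
  let mB : Submonoid (Gam X ⧸ pX) :=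
    p.primeCompl.map ((Ideal.Quotient.mk pX).comp X.hom.appTop.hom : Γ(S, ⊤) →* (Gam X ⧸ pX))
  let Bp : Type u := Localization mB
  let θ : Gam X →+* Bp := (algebraMap (Gam X ⧸ pX) Bp).comp (Ideal.Quotient.mk pX)
  let Z : Over S := Over.mk ((Spec.map (CommRingCat.ofHom θ) ≫ X.left.isoSpec.inv) ≫ X.hom)
  let z : Z ⟶ X := Over.homMk (Spec.map (CommRingCat.ofHom θ) ≫ X.left.isoSpec.inv) rfl
  haveI : IsAffine Z.left := inferInstanceAs (IsAffine (Spec (CommRingCat.of Bp)))
  let σB := (Scheme.ΓSpecIso (CommRingCat.of Bp)).commRingCatIsoToRingEquiv.symm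
  have hz : ∀ a, z.left.appTop a = σB (θ a) := fun a => by
    show (Spec.map (CommRingCat.ofHom θ) ≫ X.left.isoSpec.inv).appTop a = _
    simp only [Scheme.Hom.comp_appTop, isoSpec_inv_appTop, CommRingCat.comp_apply]
    exact (congr($(Scheme.ΓSpecIso_inv_naturality (CommRingCat.ofHom θ)) a)).symm
  have hZhom : ∀ r, Z.hom.appTop r = σB (θ (X.hom.appTop r)) := fun r => by
    rw [← hz, ← Over.w z, Scheme.Hom.comp_appTop]
    rfl
  have hZ : Fixed j jV (unitIdeal e₀ ^ 2) Z := hp Z inferInstance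
    (map_ideal_hom_eq_bot z ((Ideal.map_eq_bot_iff_le_ker _).mpr fun a ha => by
      rw [RingHom.mem_ker]
      refine (hz a).trans ?_
      have : θ a = 0 := by
        show algebraMap _ Bp (Ideal.Quotient.mk pX a) = 0
        rw [Ideal.Quotient.eq_zero_iff_mem.mpr ha, map_zero]
      rw [this, map_zero]))
    fun r hr => by
      rw [hZhom]
      exact (IsLocalization.map_units Bp (⟨_, r, hr, rfl⟩ : mB)).map σB
  have hfix : ∀ (Y : Over S) (w : Y ⟶ polyDS X M) (y : Y ⟶ Z), w ≫ polyProj X M = y ≫ z → w ≫ c = y ≫ z := by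
    intro Y w y hw
    rw [← cancel_mono (m ≫ jV), Category.assoc, hc, comp_lift_assoc, reassoc_of% hw]
    have := hZ Y y (y ≫ z ≫ m) (fun a ha => by
      show (y ≫ z).left.appTop (m.left.appTop a) = 0
      rw [redMap_appTop_zero ha, map_zero]) (w ≫ polyTu X M)
    simpa only [Category.assoc] using this
  have hloc : ∀ g, g ≠ 1 → ∀ a, ∃ r ∉ p, r • ℓ g a ∈ p • N := by
    intro g hg a
    have h1 := map_comp'_eq_zero c z hfix a hg
    rw [hz, map_eq_zero_iff σB σB.injective] at h1
    obtain ⟨⟨_, r, hr, rfl⟩, hm⟩ := (IsLocalization.map_eq_zero_iff mB Bp _).mp h1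
    have hmem : X.hom.appTop r * comp' c g a ∈ pX := Ideal.Quotient.eq_zero_iff_mem.mp (by
      rw [map_mul]; exact hm)
    refine ⟨r, hr, ?_⟩
    have e1 : r • ℓ g a = ℓ g (r • ℓ g a) := by
      rw [map_smul]
      exact congrArg (r • ·) (comp'_comp' c hassoc a g).symm
    have h2 : r • ℓ g a ∈ p • (⊤ : Submodule Γ(S, ⊤) (Gam X)) := by
      rw [Ideal.smul_top_eq_map, Submodule.restrictScalars_mem, Algebra.smul_def]
      exact hmem
    rw [e1]
    refine Submodule.smul_induction_on h2 (fun s hs y _ => ?_) fun x y hx hy => ?_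
    · rw [map_smul]; exact Submodule.smul_mem_smul hs (hN g hg y)
    · rw [map_add]; exact add_mem hx hy
  have hgen : ∀ x ∈ Fc, ∃ r ∉ p, r • x ∈ p • N := by
    intro x hx
    obtain ⟨b, -, hb⟩ := Finset.mem_biUnion.mp hx
    obtain ⟨g, hg, rfl⟩ := Finset.mem_image.mp hb
    exact hloc g (Finset.mem_erase.mp hg).1 b
  choose! rr hrr hrr' using hgen
  have hprod : (∏ x ∈ Fc, rr x) ∉ p := fun h => by
    obtain ⟨x, hx, hx'⟩ := (Ideal.IsPrime.prod_mem_iff).mp h
    exact hrr x hx hx'
  haveI : Module.Finite Γ(S, ⊤) N := Module.Finite.iff_fg.mpr ⟨Fc, rfl⟩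
  obtain ⟨r, hr, hkill⟩ := exists_kill p N _ hprod fun x => by
    obtain ⟨x, hx⟩ := x
    refine (Submodule.mem_smul_top_iff p N _).mpr ?_
    show (∏ y ∈ Fc, rr y) • x ∈ p • N
    induction hx using Submodule.span_induction with
    | mem b hb =>
      rw [← Finset.prod_erase_mul _ _ hb, mul_smul]
      exact Submodule.smul_mem _ _ (hrr' b hb)
    | zero => rw [smul_zero]; exact zero_mem _
    | add x y _ _ hx hy => rw [smul_add]; exact add_mem hx hy
    | smul s x _ hx => rw [smul_comm]; exact Submodule.smul_mem _ _ hx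
  refine ⟨r, hr, fun g hg a => ?_⟩
  have := congrArg Subtype.val (hkill ⟨ℓ g a, hN g hg a⟩)
  simpa [Algebra.smul_def] using! this

omit [IsAffine S] [IsAffine V.left] [IsMonHom j] [IsOpenImmersion jV.left] in
theorem Fixed.mono {J J' : Ideal (Gam V)} (h : J' ≤ J) {Z : Over S} (hf : Fixed j jV J' Z) :
    Fixed j jV J Z := fun Y q y hy t => hf Y q y (fun a ha => hy a (h ha)) t

omit [IsAffine S] [GrpObj G] [IsAffine V.left] in
/-- A point killing the components of non-zero degree is fixed by the coaction. -/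
theorem comp_eq_of_comp_zero {X : Over S} [IsAffine X.left] (c : polyDS X M ⟶ X)
    (hc1 : ∀ e : X ⟶ polyDS X M, e ≫ polyProj X M = 𝟙 X → e ≫ polyTu X M = 1 → e ≫ c = 𝟙 X)
    {Y : Over S} (x : Y ⟶ X) (hx : ∀ g, g ≠ 1 → ∀ a, x.left.appTop (comp' c g a) = 0)
    (w : Y ⟶ polyDS X M) (t : Y ⟶ Red.DS S M) (hw : ∀ u, w.left.appTop (polyCoord X M u) = evalDS x t u) :
    w ≫ c = x := by
  refine hom_eq_of_appTop (CommRingCat.hom_ext (RingHom.ext fun a => ?_))
  show w.left.appTop (c.left.appTop a) = x.left.appTop a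
  have hs := congrArg x.left.appTop.hom (sum_comp' c hc1 a)
  rw [map_finsuppSum] at hs
  refine Eq.trans ?_ hs
  refine (congrArg w.left.appTop.hom (polyCoord_comp' c a).symm).trans ((hw _).trans ?_)
  rw [evalDS_eq_sum]
  refine Finset.sum_congr rfl fun g _ => ?_
  dsimp only
  show _ = x.left.appTop _
  by_cases hg : g = 1
  · subst hg
    rw [toAdd_one, dsFn_zero, _root_.mul_one]
  · rw [show x.left.appTop (((polyCoordEquiv X M).symm (c.left.appTop a)).coeff g) = 0 from hx g hg a,
      zero_mul]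

include he₀ in
set_option maxHeartbeats 2000000 in
/-- If the conjugation fixes the first order thickening over a fibre, it fixes all the thickenings near
this fibre. -/
theorem exists_fixed_nhd [LocallyOfFiniteType V.hom] (p : Ideal Γ(S, ⊤)) [p.IsPrime]
    (hp : ∀ Z : Over S, IsAffine Z.left → p.map Z.hom.appTop.hom = ⊥ →
      (∀ r, r ∉ p → IsUnit (Z.hom.appTop r)) → Fixed j jV (unitIdeal e₀ ^ 2) Z) :
    ∃ r ∉ p, ∀ (n : ℕ) (Z : Over S), IsUnit (Z.hom.appTop r) → Fixed j jV (unitIdeal e₀ ^ (n + 1)) Z := by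
  classical
  obtain ⟨c₂, hc₂, -, hassoc₂, -⟩ := exists_thick e₀ j jV he₀ 1
  obtain ⟨r, hr, hkill⟩ := exists_kill_comp e₀ j jV p hp c₂ hc₂ hassoc₂
  refine ⟨r, hr, fun n Z hZ => Fixed.mono j jV (Ideal.pow_le_pow_right (show n + 1 ≤ n + 2 by omega)) ?_⟩
  obtain ⟨c, hc, hc1, hassoc, hcI⟩ := exists_thick e₀ j jV he₀ (n + 1)
  haveI := mono_redMap (unitIdeal e₀ ^ (n + 1 + 1))
  haveI : Mono jV := Over.mono_of_mono_left jV
  let X := redObj V (unitIdeal e₀ ^ (n + 1 + 1))
  let m : X ⟶ V := redMap V _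
  let Ib : Ideal (Gam X) := (unitIdeal e₀).map m.left.appTop.hom
  let ρ : Gam X := X.hom.appTop r
  let sc : Gam X →+* DSRing X M := MonoidAlgebra.singleOneRingHom
  -- the components vanish on the first order thickening
  have hbase : ∀ g, g ≠ 1 → ∀ a, ρ * comp' c g a ∈ Ib ^ 2 := by
    intro g hg a
    obtain ⟨v, hv⟩ := exists_factor_red (redMap V (unitIdeal e₀ ^ (1 + 1))) (unitIdeal e₀ ^ (n + 1 + 1))
      fun b hb => redMap_appTop_zero (Ideal.pow_le_pow_right (by omega) hb)
    obtain ⟨vM, hv1, hv2, hv3⟩ := exists_polyLift (M := M) (polyProj _ M ≫ v) (polyTu _ M)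
    have hsq : vM ≫ c = c₂ ≫ v := by
      rw [← cancel_mono (m ≫ jV), Category.assoc, hc, comp_lift_assoc, hv2, reassoc_of% hv1, Category.assoc]
      show _ = c₂ ≫ v ≫ m ≫ jV
      rw [reassoc_of% hv, hc₂]
    have h1 := congrArg (fun k => k.left.appTop a) hsq
    change vM.left.appTop (c.left.appTop a) = c₂.left.appTop (v.left.appTop a) at h1
    rw [← polyCoord_comp' c a, hv3, evalDS_comp_map, evalDS_polyTu, ← polyCoord_comp' c₂ (v.left.appTop a)] at h1
    have h2 := congrArg (fun q => q.coeff g) ((polyCoord_bijective _ M).1 h1)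
    simp only [MonoidAlgebra.coeff_mapRingHom] at h2
    have h3 : v.left.appTop (ρ * comp' c g a) = 0 := by
      rw [map_mul, show v.left.appTop (comp' c g a) = comp' c₂ g (v.left.appTop a) from h2,
        show v.left.appTop ρ = (redObj V (unitIdeal e₀ ^ (1 + 1))).hom.appTop r from by
          rw [← Over.w v, Scheme.Hom.comp_appTop]; rfl]
      exact hkill g hg _
    obtain ⟨b, hb⟩ := redMap_surjective' (unitIdeal e₀ ^ (n + 1 + 1)) (ρ * comp' c g a)
    rw [← hb] at h3 ⊢
    have h4 : b ∈ unitIdeal e₀ ^ 2 := by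
      have h5 : (redMap V (unitIdeal e₀ ^ (1 + 1))).left.appTop b = (redMap V (unitIdeal e₀ ^ (1 + 1))).left.appTop 0 := by
        rw [map_zero, ← h3, ← hv]
        rfl
      simpa using (redMap_appTop_eq_iff V (unitIdeal e₀ ^ (1 + 1)) b 0).mp h5
    show m.left.appTop b ∈ ((unitIdeal e₀).map m.left.appTop.hom) ^ 2
    rw [← Ideal.map_pow]
    exact Ideal.mem_map_of_mem _ h4
  -- degree by degree
  have hcoeff : ∀ (a : Gam X) (z : DSRing X M) (g), (sc a * z).coeff g = a * z.coeff g := fun a z g =>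
    MonoidAlgebra.coeff_single_one_mul _ _ _
  have hpowI : ∀ k, ∀ z ∈ Ib ^ k, co c z ∈ (Ib ^ k).map sc := by
    intro k z hz
    have h1 : Ib.map (co c) ≤ Ib.map sc := Ideal.map_le_iff_le_comap.mpr hcI
    have h2 := Ideal.mem_map_of_mem (co c) hz
    rw [Ideal.map_pow] at h2 ⊢
    exact Ideal.pow_right_mono h1 _ h2
  have hstep : ∀ d, ∃ K : ℕ, ∀ g, g ≠ 1 → ∀ a, ρ ^ K * comp' c g a ∈ Ib ^ (d + 2) := by
    intro d
    induction d with
    | zero => exact ⟨1, fun g hg a => by rw [pow_one]; exact hbase g hg a⟩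
    | succ d ih =>
      obtain ⟨K, hK⟩ := ih
      have hδ : ∀ x, sc (ρ ^ K) * (co c x - sc x) ∈ (Ib ^ (d + 2)).map sc := by
        intro x
        refine (mem_map_single_iff _ _).mpr fun g => ?_
        rw [hcoeff, MonoidAlgebra.coeff_sub, Finsupp.sub_apply, ← comp'_eq]
        show ρ ^ K * (comp' c g x - (MonoidAlgebra.single 1 x : DSRing X M).coeff g) ∈ _
        rw [MonoidAlgebra.coeff_single]
        by_cases hg : g = 1
        · subst hg
          rw [Finsupp.single_eq_same]
          have hx := sum_comp' c hc1 x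
          rw [Finsupp.sum] at hx
          rw [show comp' c 1 x - x = _ from congrArg (comp' c 1 x - ·) hx.symm]
          by_cases hs : (1 : Multiplicative M) ∈ ((polyCoordEquiv X M).symm (c.left.appTop x)).coeff.support
          · rw [← Finset.add_sum_erase _ _ hs,
              show comp' c 1 x = ((polyCoordEquiv X M).symm (c.left.appTop x)).coeff 1 from rfl,
              sub_add_cancel_left, mul_neg, Finset.mul_sum]
            exact neg_mem (Ideal.sum_mem _ fun g hg => hK g (Finset.mem_erase.mp hg).1 x)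
          · rw [show comp' c 1 x = 0 from Finsupp.notMem_support_iff.mp hs, zero_sub, mul_neg, Finset.mul_sum]
            exact neg_mem (Ideal.sum_mem _ fun g hg => hK g (fun h => hs (h ▸ hg)) x)
        · rw [Finsupp.single_eq_of_ne hg, sub_zero]
          exact hK g hg x
      have hP : ∀ k, ∀ z ∈ Ib ^ (k + 1), sc (ρ ^ K) * (co c z - sc z) ∈ (Ib ^ (d + 2 + k)).map sc := by
        intro k
        induction k with
        | zero => exact fun z _ => hδ z
        | succ k ihk =>
          intro z hz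
          rw [pow_succ'] at hz
          refine Submodule.mul_induction_on hz (fun x hx y hy => ?_) fun x y hx hy => ?_
          · have e : sc (ρ ^ K) * (co c (x * y) - sc (x * y)) =
                sc (ρ ^ K) * (co c x - sc x) * co c y + sc x * (sc (ρ ^ K) * (co c y - sc y)) := by
              rw [map_mul, map_mul]; ring
            rw [e]
            refine Ideal.add_mem _ ?_ ?_
            · rw [show d + 2 + (k + 1) = (d + 2) + (k + 1) from rfl, pow_add, Ideal.map_mul]
              exact Ideal.mul_mem_mul (hδ x) (hpowI _ y hy)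
            · rw [show d + 2 + (k + 1) = 1 + (d + 2 + k) by omega, pow_add, pow_one, Ideal.map_mul]
              exact Ideal.mul_mem_mul (Ideal.mem_map_of_mem _ hx) (ihk y hy)
          · rw [map_add, map_add, add_sub_add_comm, mul_add]
            exact Ideal.add_mem _ hx hy
      refine ⟨K + K, fun g hg a => ?_⟩
      have h1 := (mem_map_single_iff _ _).mp
        (hP (d + 1) (ρ ^ K * comp' c g a) (hK g hg a)) g
      rw [hcoeff, MonoidAlgebra.coeff_sub, Finsupp.sub_apply] at h1
      replace h1 : ρ ^ K * ((co c (ρ ^ K * comp' c g a)).coeff g -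
          (MonoidAlgebra.single 1 (ρ ^ K * comp' c g a) : DSRing X M).coeff g) ∈ Ib ^ (d + 2 + (d + 1)) := h1
      rw [MonoidAlgebra.coeff_single, Finsupp.single_eq_of_ne hg, sub_zero, ← comp'_eq] at h1
      have e2 : comp' c g (ρ ^ K * comp' c g a) = ρ ^ K * comp' c g a := by
        show comp' c g (X.hom.appTop r ^ K * comp' c g a) = _
        rw [← map_pow, comp'_base_mul, comp'_comp' c hassoc, map_pow]
      rw [e2, ← _root_.mul_assoc, ← pow_add] at h1
      exact Ideal.pow_le_pow_right (show d + 1 + 2 ≤ d + 2 + (d + 1) by omega) h1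
  obtain ⟨K, hK⟩ := hstep n
  have hbot : Ib ^ (n + 2) = ⊥ := by
    rw [← Ideal.map_pow, Ideal.map_eq_bot_iff_le_ker]
    exact fun b hb => RingHom.mem_ker.mpr (redMap_appTop_zero hb)
  -- conclusion
  intro Y q y hy t
  obtain ⟨x, hx⟩ := exists_factor_red y (unitIdeal e₀ ^ (n + 1 + 1)) hy
  obtain ⟨w, hw1, hw2, hw3⟩ := exists_polyLift (M := M) x t
  have hu : IsUnit (Y.hom.appTop r) := by
    rw [← Over.w q, Scheme.Hom.comp_appTop]
    exact hZ.map q.left.appTop.hom
  have hwc : w ≫ c = x := comp_eq_of_comp_zero c hc1 x (fun g hg a => by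
    have h1 := hK g hg a
    rw [hbot, Submodule.mem_bot] at h1
    have h2 : x.left.appTop (ρ ^ K) * x.left.appTop (comp' c g a) = 0 := by rw [← map_mul, h1, map_zero]
    refine (IsUnit.mul_right_eq_zero ?_).mp h2
    rw [map_pow]
    refine IsUnit.pow _ ?_
    show IsUnit ((x.left ≫ X.hom).appTop r)
    rw [Over.w x]
    exact hu) w t hw3
  have h1 : w ≫ c ≫ m ≫ jV = y ≫ jV := by rw [reassoc_of% hwc, reassoc_of% hx]
  rw [hc, comp_lift_assoc, hw2, reassoc_of% hw1, reassoc_of% hx] at h1
  exact h1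

end Groth.Agent.Cent38
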