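import Groth.Agent.Cent38.Sep
import Groth.Agent.Cent38.Local

/-!
Over a field, a morphism from a diagonalisable group of finite type to a group which is trivial on all the
torsion subgroups is trivial.
-/

set_option autoImplicit false
set_option linter.style.haveILetI false
universe u

open CategoryTheory MonoidalCategory CartesianMonoidalCategory MonObj GrpObj AlgebraicGeometry
open CategoryTheory.Limits
open Groth.Agent.RedPts82

noncomputable section

namespace Groth.Agent.Cent38

variable {S : Scheme.{u}} {G : Over S} [GrpObj G] {M : Type} [AddCommGroup M]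

/-- The restriction to the subgroup of torsion `n`. -/
abbrev torsPart (F : Red.DS S M ⟶ G) (n : ℕ) : Red.DS S (M ⧸ mulRange M n) ⟶ G :=
  Red.DSmap S (QuotientAddGroup.mk' (mulRange M n)) ≫ F

theorem subsingleton_of_isField {Z : Scheme.{u}} [IsAffine Z] (hK : IsField Γ(Z, ⊤)) : Subsingleton Z := by
  letI := hK.toField
  haveI : Subsingleton ↥(Spec Γ(Z, ⊤)) := inferInstanceAs (Subsingleton (PrimeSpectrum Γ(Z, ⊤)))
  exact Z.isoSpec.hom.homeomorph.injective.subsingleton

theorem trivOn_field (hM : AddGroup.FG M) (F : Red.DS S M ⟶ G) {Z : Over S} [IsAffine Z.left]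
    (hK : IsField Γ(Z.left, ⊤)) (htors : ∀ n : ℕ, 0 < n → TrivOn (torsPart F n) Z) : TrivOn F Z := by
  haveI := subsingleton_of_isField hK
  let P := polyDS Z M
  let Φ : P ⟶ Z ⊗ G := CartesianMonoidalCategory.lift (polyProj Z M) (polyTu Z M ≫ F)
  let σ : Z ⟶ Z ⊗ G := CartesianMonoidalCategory.lift (𝟙 Z) 1
  have hσ : σ.left ≫ (fst Z G).left = 𝟙 Z.left := by
    rw [← Over.comp_left, lift_fst, Over.id_left]
  haveI : IsClosedImmersion σ.left := isClosedImmersion_of_comp_eq_id _ σ.left hσ
  let i := pullback.fst Φ.left σ.left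
  have hinj : Function.Injective i.appTop := by
    refine (injective_iff_map_eq_zero i.appTop.hom).mpr fun a ha => ?_
    obtain ⟨v, rfl⟩ := (polyCoord_bijective Z M).2 a
    rw [show v = 0 from eq_zero_of_torsion hM v fun n hn => ?_, map_zero]
    let N := M ⧸ mulRange M n
    let π : M →+ N := QuotientAddGroup.mk' (mulRange M n)
    obtain ⟨w, hw1, hw2, hw3⟩ := exists_polyLift (M := M) (polyProj Z N) (polyTu Z N ≫ Red.DSmap S π)
    have hw : w ≫ Φ = polyProj Z N ≫ σ := by
      refine CartesianMonoidalCategory.hom_ext _ _ ?_ ?_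
      · simp only [Φ, σ, Category.assoc, lift_fst, hw1, Category.comp_id]
      · simp only [Φ, σ, Category.assoc, lift_snd, reassoc_of% hw2, MonObj.comp_one]
        exact htors n hn _ (polyProj Z N) (polyTu Z N)
    let k := pullback.lift w.left (polyProj Z N).left (congrArg CommaMorphism.left hw)
    have hk : k ≫ i = w.left := pullback.lift_fst _ _ _
    have h1 : w.left.appTop (polyCoord Z M v) = 0 := by
      rw [← hk, Scheme.Hom.comp_appTop]
      show k.appTop (i.appTop _) = 0
      rw [ha, map_zero]
    rw [hw3, evalDS_DSmap, evalDS_polyTu, map_eq_zero_iff _ (polyCoord_bijective Z N).1] at h1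
    exact h1
  haveI : IsIso i := IsClosedImmersion.isIso_of_injective_of_isAffine hinj
  let q := inv i ≫ pullback.snd Φ.left σ.left
  have hq : q ≫ σ.left = Φ.left := by
    simp only [q, Category.assoc, ← pullback.condition, i, IsIso.inv_hom_id_assoc]
  have hq' : q = (polyProj Z M).left := by
    rw [← Category.comp_id q, ← hσ, reassoc_of% hq, ← Over.comp_left, lift_fst]
  have hP : polyTu Z M ≫ F = 1 := by
    have e : Φ = polyProj Z M ≫ σ := Over.OverMorphism.ext (by rw [Over.comp_left, ← hq', hq])
    have e1 := congrArg (· ≫ snd Z G) e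
    simpa only [Φ, σ, Category.assoc, lift_snd, MonObj.comp_one] using e1
  intro Y z t
  obtain ⟨w, -, hw2, -⟩ := exists_polyLift (M := M) z t
  rw [← hw2, Category.assoc, hP, MonObj.comp_one]

end Groth.Agent.Cent38
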