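import Groth.Agent.Cent38.Main
import Groth.Agent.Cent38.Unit
import Groth.Agent.RedPts82.CentralRigid

/-!
Two homomorphisms from a diagonalisable group to a group, one of them central over a point, which agree over
this point agree near it.
-/

set_option autoImplicit false
set_option linter.style.haveILetI false
set_option linter.unusedSectionVars false
universe u

open CategoryTheory MonoidalCategory CartesianMonoidalCategory MonObj GrpObj AlgebraicGeometry
open CategoryTheory.Limits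
open Groth.Agent.RedPts82

noncomputable section

namespace Groth.Agent.Cent38

variable {S : Scheme.{u}} {G : Over S} [GrpObj G] {M : Type} [AddCommGroup M]

/-- The objects over the residue field of a prime. -/
def OverPrime (p : Ideal Γ(S, ⊤)) (Z : Over S) : Prop :=
  IsAffine Z.left ∧ p.map Z.hom.appTop.hom = ⊥ ∧ ∀ r, r ∉ p → IsUnit (Z.hom.appTop r)

/-- The homomorphism is central over a prime. -/
def CentFib (p : Ideal Γ(S, ⊤)) {H : Over S} (j : H ⟶ G) : Prop :=
  ∀ Z : Over S, OverPrime p Z → ∀ (Y : Over S) (_ : Y ⟶ Z) (g : Y ⟶ G) (h : Y ⟶ H),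
    g * (h ≫ j) = (h ≫ j) * g

theorem CentFib.comp {p : Ideal Γ(S, ⊤)} {H H' : Over S} {j : H ⟶ G} (h : CentFib p j) (a : H' ⟶ H) :
    CentFib p (a ≫ j) := fun Z hZ Y q g t => by
  rw [← Category.assoc]
  exact h Z hZ Y q g (t ≫ a)

variable [IsAffine S] {V : Over S} [IsAffine V.left] (e₀ : 𝟙_ (Over S) ⟶ V) (jV : V ⟶ G)
  [IsOpenImmersion jV.left] (he₀ : e₀ ≫ jV = η[G]) {p : Ideal Γ(S, ⊤)} [p.IsPrime]

include he₀ in
set_option maxHeartbeats 2000000 in
/-- Conjugation by a group central over a prime fixes the points congruent to the unit modulo an ideal of square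
zero killed by the prime. -/
theorem conj_fix_of_congr (j : Red.DS S M ⟶ G) [IsMonHom j] (hp : CentFib p j) {T : Over S} [IsAffine T.left]
    {J : Ideal (Gam T)} (hJ : J * J = ⊥) (hpJ : p.map T.hom.appTop.hom * J = ⊥)
    (hunit : ∀ r, r ∉ p → IsUnit (T.hom.appTop r)) (y : T ⟶ G) (hy : redMap T J ≫ y = 1)
    {Y : Over S} (q : Y ⟶ T) (t : Y ⟶ Red.DS S M) :
    CartesianMonoidalCategory.lift t (q ≫ y) ≫ conjAct j = q ≫ y := by
  classical
  obtain ⟨c, hc, hc1, -, -⟩ := exists_thick e₀ j jV he₀ 1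
  let I := unitIdeal e₀
  let X := redObj V (I ^ (1 + 1))
  let m : X ⟶ V := redMap V _
  haveI := mono_redMap (I ^ (1 + 1))
  haveI : Mono jV := Over.mono_of_mono_left jV
  haveI : IsAffine (𝟙_ (Over S)).left := inferInstanceAs (IsAffine S)
  -- the point in the thickening
  obtain ⟨y', hy', hy''⟩ := exists_factor_open hJ jV y (toUnit T ≫ e₀) (by
    rw [hy, Category.assoc, unit_comp e₀ jV he₀, MonObj.comp_one])
  have hyI : ∀ a ∈ I, y'.left.appTop a ∈ J := fun a ha => by
    have h1 : (redMap T J).left.appTop (y'.left.appTop a) = 0 := by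
      show (redMap T J ≫ y').left.appTop a = 0
      rw [hy'', ← Category.assoc]
      show (redMap T J ≫ toUnit T).left.appTop (e₀.left.appTop a) = 0
      rw [show e₀.left.appTop a = 0 from ha, map_zero]
    simpa using (redMap_appTop_eq_iff T J _ 0).mp (h1.trans (map_zero _).symm)
  obtain ⟨x, hx⟩ := exists_factor_red y' (I ^ (1 + 1)) fun a ha => by
    have h1 := Ideal.mem_map_of_mem y'.left.appTop.hom ha
    rw [Ideal.map_pow] at h1
    have h2 := Ideal.pow_right_mono (Ideal.map_le_iff_le_comap.mpr hyI) _ h1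
    rwa [pow_two, hJ, Submodule.mem_bot] at h2
  obtain ⟨e₂, he₂⟩ := exists_factor_red e₀ (I ^ (1 + 1)) fun a ha => Ideal.pow_le_self (by omega) ha
  -- its values are those of the unit up to the ideal
  have hd : ∀ b : Gam X, x.left.appTop b - T.hom.appTop (e₂.left.appTop b) ∈ J := fun b => by
    obtain ⟨a, rfl⟩ := redMap_surjective' (I ^ (1 + 1)) b
    have h1 : x.left.appTop (m.left.appTop a) = y'.left.appTop a := by rw [← hx]; rfl
    have h2 : e₂.left.appTop (m.left.appTop a) = e₀.left.appTop a := by rw [← he₂]; rfl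
    have h3 : ∀ r, y'.left.appTop (V.hom.appTop r) = T.hom.appTop r := fun r => by
      show (y'.left ≫ V.hom).appTop r = _
      rw [Over.w y']
    have h4 : e₀.left.appTop (V.hom.appTop (e₀.left.appTop a)) = e₀.left.appTop a := by
      show (e₀.left ≫ V.hom).appTop _ = _
      rw [Over.w e₀]
      rfl
    show x.left.appTop (m.left.appTop a) - T.hom.appTop (e₂.left.appTop (m.left.appTop a)) ∈ J
    rw [h1, h2, ← h3, ← map_sub]
    exact hyI _ (by show e₀.left.appTop _ = 0; rw [map_sub, h4, sub_self])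
  have hxb : ∀ r, x.left.appTop (X.hom.appTop r) = T.hom.appTop r := fun r => by
    show (x.left ≫ X.hom).appTop r = _
    rw [Over.w x]
  have heb : ∀ r, e₂.left.appTop (X.hom.appTop r) = r := fun r => by
    show (e₂.left ≫ X.hom).appTop r = _
    rw [Over.w e₂]
    rfl
  let pX : Ideal (Gam X) := p.map X.hom.appTop.hom
  have hpX : ∀ b ∈ pX, ∀ w, x.left.appTop (w * b) = T.hom.appTop (e₂.left.appTop (w * b)) := by
    intro b hb
    induction hb using Submodule.span_induction with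
    | mem b hb =>
      obtain ⟨s, hs, rfl⟩ := hb
      intro w
      have h1 : (x.left.appTop w - T.hom.appTop (e₂.left.appTop w)) * T.hom.appTop s = 0 := by
        rw [_root_.mul_comm _ (T.hom.appTop s), ← Submodule.mem_bot (R := Gam T), ← hpJ]
        exact Ideal.mul_mem_mul (Ideal.mem_map_of_mem _ hs) (hd w)
      rw [sub_mul, sub_eq_zero] at h1
      show x.left.appTop (w * X.hom.appTop s) = T.hom.appTop (e₂.left.appTop (w * X.hom.appTop s))
      rw [map_mul, map_mul, hxb, heb, h1, ← map_mul]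
    | zero => intro w; simp
    | add b b' _ _ h1 h2 => intro w; simp only [mul_add, map_add, h1, h2]
    | smul r b _ h1 => intro w; rw [smul_eq_mul, ← _root_.mul_assoc]; exact h1 _
  -- the components die in the fibre
  let mB : Submonoid (Gam X ⧸ pX) :=
    p.primeCompl.map ((Ideal.Quotient.mk pX).comp X.hom.appTop.hom : Γ(S, ⊤) →* (Gam X ⧸ pX))
  let Bp : Type u := Localization mB
  let θ : Gam X →+* Bp := (algebraMap (Gam X ⧸ pX) Bp).comp (Ideal.Quotient.mk pX)
  let Z : Over S := Over.mk ((Spec.map (CommRingCat.ofHom θ) ≫ X.left.isoSpec.inv) ≫ X.hom)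
  let z : Z ⟶ X := Over.homMk (Spec.map (CommRingCat.ofHom θ) ≫ X.left.isoSpec.inv) rfl
  haveI : IsAffine Z.left := inferInstanceAs (IsAffine (Spec (CommRingCat.of Bp)))
  let σB := (Scheme.ΓSpecIso (CommRingCat.of Bp)).commRingCatIsoToRingEquiv.symm
  have hz : ∀ a, z.left.appTop a = σB (θ a) := fun a => by
    show (Spec.map (CommRingCat.ofHom θ) ≫ X.left.isoSpec.inv).appTop a = _
    simp only [Scheme.Hom.comp_appTop, isoSpec_inv_appTop, CommRingCat.comp_apply]
    exact (congr($(Scheme.ΓSpecIso_inv_naturality (CommRingCat.ofHom θ)) a)).symm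
  have hZhom : ∀ r, Z.hom.appTop r = σB (θ (X.hom.appTop r)) := fun r => by
    rw [← hz, ← Over.w z, Scheme.Hom.comp_appTop]
    rfl
  have hZ : OverPrime p Z := ⟨inferInstance,
    (map_ideal_hom_eq_bot z ((Ideal.map_eq_bot_iff_le_ker _).mpr fun a ha => by
      rw [RingHom.mem_ker]
      refine (hz a).trans ?_
      have : θ a = 0 := by
        show algebraMap _ Bp (Ideal.Quotient.mk pX a) = 0
        rw [Ideal.Quotient.eq_zero_iff_mem.mpr ha, map_zero]
      rw [this, map_zero])),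
    fun r hr => by
      rw [hZhom]
      exact (IsLocalization.map_units Bp (⟨_, r, hr, rfl⟩ : mB)).map σB⟩
  have hfix : ∀ (Y : Over S) (w : Y ⟶ polyDS X M) (y : Y ⟶ Z), w ≫ polyProj X M = y ≫ z → w ≫ c = y ≫ z := by
    intro Y w y hw
    rw [← cancel_mono (m ≫ jV), Category.assoc, hc, comp_lift_assoc, reassoc_of% hw]
    simp only [Category.assoc]
    exact (conjAct_eq_iff j _ _).mpr (hp Z hZ Y y _ _).symm
  have hloc : ∀ g, g ≠ 1 → ∀ a, ∃ r ∉ p, X.hom.appTop r * comp' c g a ∈ pX := by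
    intro g hg a
    have h1 := map_comp'_eq_zero c z hfix a hg
    rw [hz, map_eq_zero_iff σB σB.injective] at h1
    obtain ⟨⟨_, r, hr, rfl⟩, hm⟩ := (IsLocalization.map_eq_zero_iff mB Bp _).mp h1
    exact ⟨r, hr, Ideal.Quotient.eq_zero_iff_mem.mp (by rw [map_mul]; exact hm)⟩
  -- they vanish at the unit
  have hfix₀ : ∀ (Y : Over S) (w : Y ⟶ polyDS X M) (y : Y ⟶ 𝟙_ (Over S)), w ≫ polyProj X M = y ≫ e₂ →
      w ≫ c = y ≫ e₂ := by
    intro Y w y hw
    rw [← cancel_mono (m ≫ jV), Category.assoc, hc, comp_lift_assoc, reassoc_of% hw]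
    simp only [Category.assoc, toUnit_unique y (toUnit Y)]
    rw [reassoc_of% he₂, unit_comp e₀ jV he₀, lift_one_conjAct]
  have hzero : ∀ g, g ≠ 1 → ∀ a, x.left.appTop (comp' c g a) = 0 := by
    intro g hg a
    obtain ⟨r, hr, hr'⟩ := hloc g hg a
    have h0 : e₂.left.appTop (comp' c g a) = 0 := map_comp'_eq_zero c e₂ hfix₀ a hg
    have h1 := hpX _ hr' 1
    rw [_root_.one_mul, map_mul, map_mul, hxb, h0, mul_zero, map_zero] at h1
    exact (hunit r hr).mul_right_eq_zero.mp h1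
  obtain ⟨w, hw1, hw2, hw3⟩ := exists_polyLift (M := M) (q ≫ x) t
  have hwc : w ≫ c = q ≫ x := comp_eq_of_comp_zero c hc1 (q ≫ x) (fun g hg a => by
    show q.left.appTop (x.left.appTop (comp' c g a)) = 0
    rw [hzero g hg a, map_zero]) w t hw3
  have h1 : w ≫ c ≫ m ≫ jV = q ≫ y := by rw [reassoc_of% hwc, reassoc_of% hx, hy']
  rw [hc, comp_lift_assoc, hw2, reassoc_of% hw1, reassoc_of% hx, hy'] at h1
  exact h1

include he₀ in
set_option maxHeartbeats 1000000 in
/-- The quotient of two homomorphisms, the first central over a prime, is rigid at this prime. -/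
theorem step_of_centFib (u₁ u₂ : Red.DS S M ⟶ G) [IsMonHom u₁] [IsMonHom u₂] (hp : CentFib p u₁) :
    Step (u₁ * u₂⁻¹) p := by
  intro T _ J hJ hpJ hunit htriv Y q t
  let F : Red.DS S M ⟶ G := u₁ * u₂⁻¹
  have hF : ∀ {Y : Over S} (a : Y ⟶ Red.DS S M), a ≫ F = (a ≫ u₁) * (a ≫ u₂)⁻¹ := fun a => by
    simp only [F, MonObj.comp_mul, GrpObj.comp_inv]
  let T₁ := polyDS T M
  let J₁ : Ideal (Gam T₁) := upIdeal T M J
  have hJ₁ : J₁ * J₁ = ⊥ := by
    show Ideal.map _ J * Ideal.map _ J = ⊥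
    rw [← Ideal.map_mul, hJ, Ideal.map_bot]
  have hT₁ : ∀ r, T₁.hom.appTop r = (polyProj T M).left.appTop (T.hom.appTop r) := fun r => by
    rw [← Over.w (polyProj T M), Scheme.Hom.comp_appTop]
    rfl
  have hpJ₁ : p.map T₁.hom.appTop.hom * J₁ = ⊥ := by
    rw [show p.map T₁.hom.appTop.hom = (p.map T.hom.appTop.hom).map (polyProj T M).left.appTop.hom by
      rw [Ideal.map_map]; congr 1]
    show _ * Ideal.map _ J = ⊥
    rw [← Ideal.map_mul, hpJ, Ideal.map_bot]
  have hunit₁ : ∀ r, r ∉ p → IsUnit (T₁.hom.appTop r) := fun r hr => by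
    rw [hT₁]
    exact (hunit r hr).map _
  obtain ⟨v, hv⟩ := exists_redMap_comp (J := J₁) (J' := J) (polyProj T M) fun a ha => Ideal.mem_map_of_mem _ ha
  have hy₁ : redMap T₁ J₁ ≫ polyTu T M ≫ F = 1 := by
    rw [← Category.assoc]
    exact htriv _ v _
  have hfix : ∀ {Y : Over S} (_ : Y ⟶ T) (a b : Y ⟶ Red.DS S M),
      (a ≫ u₁) * (b ≫ F) = (b ≫ F) * (a ≫ u₁) := fun {Y} z a b => by
    obtain ⟨w, -, hw2, -⟩ := exists_polyLift (M := M) z b
    have h := conj_fix_of_congr e₀ jV he₀ u₁ hp hJ₁ hpJ₁ hunit₁ (polyTu T M ≫ F) hy₁ w a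
    rw [reassoc_of% hw2, conjAct_eq_iff] at h
    exact h
  have hw : ∀ (Z : Over S) (z : Z ⟶ T) (a b : Z ⟶ Red.DS S M),
      CartesianMonoidalCategory.lift z (a * b) ≫ snd _ _ ≫ F =
        (CartesianMonoidalCategory.lift z a ≫ snd _ _ ≫ F) *
          (CartesianMonoidalCategory.lift z b ≫ snd _ _ ≫ F) := fun Z z a b => by
    simp only [lift_snd_assoc]
    have hab : a * b = b * a := dsFn_injective fun m => by rw [dsFn_mul, dsFn_mul, _root_.mul_comm]
    rw [hab, hF (b * a), MonObj.mul_comp _ _ u₁, MonObj.mul_comp _ _ u₂, comp_mul_comm u₂ b a,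
      _root_.mul_inv_rev]
    calc (b ≫ u₁) * (a ≫ u₁) * ((b ≫ u₂)⁻¹ * (a ≫ u₂)⁻¹)
        = (b ≫ u₁) * (a ≫ u₁) * ((b ≫ u₂) * (a ≫ u₂))⁻¹ := by
          rw [comp_mul_comm u₂ b a, _root_.mul_inv_rev]
      _ = (b ≫ u₁) * (a ≫ F) * (b ≫ u₂)⁻¹ := by
          rw [_root_.mul_inv_rev, hF a]
          simp only [_root_.mul_assoc]
      _ = (a ≫ F) * (b ≫ F) := by
          rw [hfix z b a, hF b, _root_.mul_assoc]
  have h := rigid_family (snd T (Red.DS S M) ≫ F) hw hJ (fun Z z a => by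
    rw [lift_snd_assoc]
    exact htriv Z z a) q t
  rwa [lift_snd_assoc] at h

include he₀ in
set_option maxHeartbeats 2000000 in
/-- A morphism trivial on all the torsion subgroups over a local ring is trivial near its closed point. -/
theorem exists_nhd_trivial (hM : AddGroup.FG M) (F : Red.DS S M ⟶ G)
    (hfg : IsNoetherianRing Γ(S, ⊤) ∨ (unitIdeal e₀).FG)
    (htors : ∀ n : ℕ, 0 < n → ∀ Z : Over S, (∀ r, r ∉ p → IsUnit (Z.hom.appTop r)) → TrivOn (torsPart F n) Z) :
    ∃ r ∉ p, ∀ Z : Over S, IsUnit (Z.hom.appTop r) → TrivOn F Z := by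
  classical
  haveI : IsAffine (𝟙_ (Over S)).left := inferInstanceAs (IsAffine S)
  haveI : Mono jV := Over.mono_of_mono_left jV
  let P₀ := polyDS (𝟙_ (Over S)) M
  let F₀ : P₀ ⟶ G := polyTu (𝟙_ (Over S)) M ≫ F
  let O : P₀.left.Opens := F₀.left ⁻¹ᵁ jV.left.opensRange
  have hmem : ∀ (z : P₀.left) (b : Γ(P₀.left, ⊤)), z ∈ P₀.left.basicOpen b ↔ b ∉ (P₀.left.toSpecΓ z).asIdeal :=
    fun z b => by rw [← Scheme.toSpecΓ_preimage_basicOpen]; rfl
  -- the points over the local ring go to the chart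
  have hland : ∀ z : P₀.left, (∀ r, r ∉ p → z ∈ P₀.left.basicOpen (P₀.hom.appTop r)) → z ∈ O := by
    intro z hz
    let R : Over S := Over.mk (P₀.left.fromSpecResidueField z ≫ P₀.hom)
    let e : R ⟶ P₀ := Over.homMk (P₀.left.fromSpecResidueField z) rfl
    haveI : IsAffine R.left := inferInstanceAs (IsAffine (Spec _))
    have hK : IsField Γ(R.left, ⊤) :=
      MulEquiv.isField (Field.toIsField (P₀.left.residueField z))
        (Scheme.ΓSpecIso _).commRingCatIsoToRingEquiv.toMulEquiv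
    have hu : ∀ r, r ∉ p → IsUnit (R.hom.appTop r) := fun r hr => by
      refine isUnit_appTop _ ?_
      show (Spec (P₀.left.residueField z)).basicOpen ((P₀.left.fromSpecResidueField z ≫ P₀.hom).appTop r) = ⊤
      rw [Scheme.Hom.comp_appTop]
      refine eq_top_iff.mpr fun x _ => ?_
      refine (Scheme.preimage_basicOpen_top (P₀.left.fromSpecResidueField z) _).le ?_
      show P₀.left.fromSpecResidueField z x ∈ P₀.left.basicOpen (P₀.hom.appTop r)
      rw [Scheme.fromSpecResidueField_apply]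
      exact hz r hr
    have h1 : e ≫ F₀ = toUnit R ≫ e₀ ≫ jV := by
      rw [unit_comp e₀ jV he₀, ← Category.assoc]
      exact trivOn_field hM F hK (fun n hn => htors n hn R hu) R (𝟙 R) _
    have he : e.left (IsLocalRing.closedPoint _) = z := Scheme.fromSpecResidueField_apply z _
    show F₀.left z ∈ Set.range jV.left.base
    refine ⟨(toUnit R ≫ e₀).left (IsLocalRing.closedPoint _), ?_⟩
    have h4 := congrArg (fun k : R ⟶ G => k.left (IsLocalRing.closedPoint _)) h1
    simp only [Over.comp_left, Scheme.Hom.comp_apply, he] at h4 ⊢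
    exact h4.symm
  -- a basic open set goes to the chart
  obtain ⟨s, hs, hsO⟩ : ∃ s ∉ p, ∀ z : P₀.left, z ∈ P₀.left.basicOpen (P₀.hom.appTop s) → z ∈ O := by
    obtain ⟨𝔞, h𝔞⟩ := (PrimeSpectrum.isClosed_iff_zeroLocus_ideal _).mp
      (P₀.left.toSpecΓ.isClosedEmbedding.isClosedMap (O : Set P₀.left)ᶜ O.2.isClosed_compl)
    let Mo : Submonoid Γ(P₀.left, ⊤) := p.primeCompl.map (P₀.hom.appTop.hom : Γ(S, ⊤) →* Γ(P₀.left, ⊤))
    by_contra hne
    push Not at hne
    have hdis : Disjoint (𝔞 : Set Γ(P₀.left, ⊤)) (Mo : Set Γ(P₀.left, ⊤)) := by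
      rw [Set.disjoint_left]
      rintro _ ha ⟨r, hr, rfl⟩
      obtain ⟨z, hz, hzO⟩ := hne r hr
      have h1 : (P₀.left.toSpecΓ z : PrimeSpectrum Γ(P₀.left, ⊤)) ∈
          PrimeSpectrum.zeroLocus (𝔞 : Set Γ(P₀.left, ⊤)) := h𝔞 ▸ ⟨z, hzO, rfl⟩
      exact (hmem z _).mp hz (h1 ha)
    obtain ⟨Q, hQ, hle, hQdis⟩ := Ideal.exists_le_prime_disjoint 𝔞 Mo hdis
    obtain ⟨z, hzO, hz⟩ : (⟨Q, hQ⟩ : PrimeSpectrum Γ(P₀.left, ⊤)) ∈ P₀.left.toSpecΓ.base '' (O : Set P₀.left)ᶜ := by
      rw [h𝔞]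
      exact hle
    refine hzO (hland z fun r hr => (hmem z _).mpr fun hn => ?_)
    rw [show P₀.left.toSpecΓ z = ⟨Q, hQ⟩ from hz] at hn
    exact Set.disjoint_left.mp hQdis hn ⟨r, hr, rfl⟩
  obtain ⟨Ts, hTsaff, hlocs, hunivs⟩ := exists_loc_obj (S := S) (Submonoid.powers s)
  obtain ⟨T, hTaff, hloc, -⟩ := exists_loc_obj (S := S) p.primeCompl
  have hunitT : ∀ r, r ∉ p → IsUnit (T.hom.appTop r) := fun r hr => by
    letI := T.hom.appTop.hom.toAlgebra
    exact IsLocalization.map_units (Gam T) (⟨r, hr⟩ : p.primeCompl)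
  obtain ⟨f⟩ := hunivs T fun r hr => by
    obtain ⟨k, rfl⟩ := hr
    exact hunitT _ fun h => hs ((inferInstance : p.IsPrime).mem_of_pow_mem k h)
  have hsu : IsUnit (Ts.hom.appTop s) := by
    letI := Ts.hom.appTop.hom.toAlgebra
    exact IsLocalization.map_units (Gam Ts) (⟨s, Submonoid.mem_powers s⟩ : Submonoid.powers s)
  -- the chart over the basic open set
  let P := polyDS Ts M
  obtain ⟨w₀, -, hw₀, -⟩ := exists_polyLift (M := M) (polyProj Ts M ≫ toUnit Ts) (polyTu Ts M)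
  have hr : Set.range (polyTu Ts M ≫ F).left.base ⊆ Set.range jV.left.base := by
    rintro _ ⟨z, rfl⟩
    rw [← hw₀, Category.assoc, Over.comp_left]
    show F₀.left (w₀.left z) ∈ _
    refine hsO _ ?_
    show z ∈ w₀.left ⁻¹ᵁ P₀.left.basicOpen (P₀.hom.appTop s)
    rw [Scheme.preimage_basicOpen_top, Scheme.basicOpen_of_isUnit]
    · trivial
    · show IsUnit ((w₀.left ≫ P₀.hom).appTop s)
      rw [Over.w w₀, ← Over.w (polyProj Ts M), Scheme.Hom.comp_appTop]
      exact hsu.map (polyProj Ts M).left.appTop.hom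
  let F' : P ⟶ V := Over.homMk (IsOpenImmersion.lift jV.left (polyTu Ts M ≫ F).left hr) (by
    rw [← Over.w jV, IsOpenImmersion.lift_fac_assoc, Over.w (polyTu Ts M ≫ F)])
  have hF' : F' ≫ jV = polyTu Ts M ≫ F := Over.OverMorphism.ext (IsOpenImmersion.lift_fac _ _ hr)
  let J := coefIdeal e₀ F'
  obtain ⟨B, hB⟩ : J.FG := coefIdeal_fg e₀ F' (hfg.imp_left fun h => by
    letI := Ts.hom.appTop.hom.toAlgebra
    exact IsLocalization.isNoetherianRing (Submonoid.powers s) (Gam Ts) h)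
  -- the coefficients die in the local ring
  have hdie : ∀ b ∈ J, f.left.appTop b = 0 := by
    suffices J ≤ RingHom.ker f.left.appTop.hom from fun b hb => this hb
    refine Ideal.span_le.mpr ?_
    rintro _ ⟨a, ha, g, rfl⟩
    have hv : MonoidAlgebra.mapRingHom (Multiplicative M) f.left.appTop.hom (coefMap F' a) = 0 := by
      refine eq_zero_of_torsion hM _ fun n hn => ?_
      let N := M ⧸ mulRange M n
      let π : M →+ N := QuotientAddGroup.mk' (mulRange M n)
      obtain ⟨w, hw1, hw2, hw3⟩ := exists_polyLift (M := M) (polyProj T N ≫ f) (polyTu T N ≫ Red.DSmap S π)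
      have hu : w ≫ F' = toUnit _ ≫ e₀ := by
        rw [← cancel_mono jV, Category.assoc, hF', reassoc_of% hw2, Category.assoc, unit_comp e₀ jV he₀]
        exact htors n hn T hunitT _ (polyProj T N) (polyTu T N)
      have h1 : w.left.appTop (F'.left.appTop a) = 0 := by
        show (w ≫ F').left.appTop a = 0
        rw [hu]
        show (toUnit (polyDS T N)).left.appTop (e₀.left.appTop a) = 0
        rw [show e₀.left.appTop a = 0 from ha, map_zero]
      have h2 : polyCoord Ts M (coefMap F' a) = F'.left.appTop a := (polyCoordEquiv Ts M).apply_symm_apply _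
      rw [← h2, hw3, evalDS_comp_map, evalDS_DSmap, evalDS_polyTu,
        map_eq_zero_iff _ (polyCoord_bijective T N).1] at h1
      exact h1
    have h3 := congrArg (fun q => q.coeff g) hv
    simpa [MonoidAlgebra.coeff_mapRingHom] using h3
  have hkill : ∀ b ∈ B, ∃ r ∉ p, Ts.hom.appTop r * b = 0 := by
    intro b hb
    letI := Ts.hom.appTop.hom.toAlgebra
    letI := T.hom.appTop.hom.toAlgebra
    obtain ⟨⟨a, x⟩, hax⟩ := IsLocalization.surj (Submonoid.powers s) b
    replace hax : b * Ts.hom.appTop x.1 = Ts.hom.appTop a := hax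
    have ha : T.hom.appTop a = 0 := by
      rw [← Over.w f, Scheme.Hom.comp_appTop]
      show f.left.appTop (Ts.hom.appTop a) = 0
      rw [← hax, map_mul, hdie b (hB ▸ Ideal.subset_span hb), zero_mul]
    obtain ⟨⟨r, hr⟩, hra⟩ := (IsLocalization.map_eq_zero_iff p.primeCompl (Gam T) a).mp ha
    refine ⟨r, hr, (IsLocalization.map_units (Gam Ts) x).mul_left_eq_zero.mp ?_⟩
    show Ts.hom.appTop r * b * Ts.hom.appTop x.1 = 0
    rw [_root_.mul_assoc, hax, ← map_mul, hra, map_zero]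
  choose! rr hrr hrr' using hkill
  refine ⟨s * ∏ b ∈ B, rr b, fun h => ?_, fun Z hZ => ?_⟩
  · rcases (inferInstance : p.IsPrime).mem_or_mem h with h | h
    · exact hs h
    · obtain ⟨b, hb, hb'⟩ := Ideal.IsPrime.prod_mem_iff.mp h
      exact hrr b hb hb'
  rw [map_mul, IsUnit.mul_iff, map_prod, IsUnit.prod_iff] at hZ
  obtain ⟨k⟩ := hunivs Z fun r hr => by
    obtain ⟨i, rfl⟩ := hr
    rw [map_pow]
    exact hZ.1.pow i
  intro Y q t
  refine trivial_of_coeff e₀ jV he₀ F F' hF' (q ≫ k) (fun b hb => ?_) t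
  suffices J ≤ RingHom.ker (q ≫ k).left.appTop.hom from this hb
  rw [← hB, Ideal.span_le]
  intro b hb
  show q.left.appTop (k.left.appTop b) = 0
  have h1 : k.left.appTop (Ts.hom.appTop (rr b)) * k.left.appTop b = 0 := by
    rw [← map_mul, hrr' b hb, map_zero]
  have h2 : k.left.appTop (Ts.hom.appTop (rr b)) = Z.hom.appTop (rr b) := by
    rw [← Over.w k, Scheme.Hom.comp_appTop]; rfl
  rw [h2] at h1
  rw [(hZ.2 b hb).mul_right_eq_zero.mp h1, map_zero]

include he₀ in
/-- Two homomorphisms, one of them central over a prime, equal over this prime are equal near it. -/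
theorem exists_nhd_eq_chart (hM : AddGroup.FG M) (u₁ u₂ : Red.DS S M ⟶ G) [IsMonHom u₁] [IsMonHom u₂]
    (hfg : IsNoetherianRing Γ(S, ⊤) ∨ (unitIdeal e₀).FG) (hp : CentFib p u₁)
    (h0 : ∀ Z : Over S, OverPrime p Z → TrivOn (u₁ * u₂⁻¹) Z) :
    ∃ r ∉ p, ∀ Z : Over S, IsUnit (Z.hom.appTop r) → TrivOn (u₁ * u₂⁻¹) Z := by
  refine exists_nhd_trivial e₀ jV he₀ hM _ hfg fun n hn Z hZ => ?_
  let π : M →+ M ⧸ mulRange M n := QuotientAddGroup.mk' (mulRange M n)
  haveI := finite_quot M hM hn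
  haveI : IsMonHom (Red.DSmap S π ≫ u₁) := isMonHom_of_points _ fun Z a b => by
    simp only [← Category.assoc, MonObj.mul_comp _ _ (Red.DSmap S π), MonObj.mul_comp _ _ u₁]
  haveI : IsMonHom (Red.DSmap S π ≫ u₂) := isMonHom_of_points _ fun Z a b => by
    simp only [← Category.assoc, MonObj.mul_comp _ _ (Red.DSmap S π), MonObj.mul_comp _ _ u₂]
  have e : torsPart (u₁ * u₂⁻¹) n = (Red.DSmap S π ≫ u₁) * (Red.DSmap S π ≫ u₂)⁻¹ := by
    show Red.DSmap S π ≫ _ = _
    rw [MonObj.comp_mul, GrpObj.comp_inv]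
  rw [e]
  refine trivOn_local e₀ jV he₀ _ p hfg (step_of_centFib e₀ jV he₀ _ _ (hp.comp _)) ?_ Z hZ
  intro Z hZaff hkill hunit Y q t
  rw [← e]
  show t ≫ Red.DSmap S π ≫ _ = 1
  rw [← Category.assoc]
  exact h0 Z ⟨hZaff, hkill, hunit⟩ Y q _

end Groth.Agent.Cent38
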