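import Groth.Agent.RedPts82.DSChar
import Groth.Agent.RedPts82.RelHom
import Groth.Agent.SGA3b53.HenselLift

/-!
A function on a diagonalisable group vanishing on all torsion subgroups is zero.
-/

set_option autoImplicit false
set_option linter.style.haveILetI false
universe u

open CategoryTheory MonoidalCategory CartesianMonoidalCategory MonObj GrpObj AlgebraicGeometry
open Groth.Agent.RedPts82

noncomputable section

namespace Groth.Agent.Cent38

/-- The image of multiplication by `n`. -/
abbrev mulRange (M : Type) [AddCommGroup M] (n : ℕ) : AddSubgroup M :=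
  (nsmulAddMonoidHom (α := M) n).range

theorem finite_quot (M : Type) [AddCommGroup M] (hM : AddGroup.FG M) {n : ℕ} (hn : 0 < n) :
    Finite (M ⧸ mulRange M n) := by
  haveI : Module.Finite ℤ M := Module.Finite.iff_addGroup_fg.mpr hM
  haveI : Module.Finite ℤ (M ⧸ mulRange M n) :=
    Module.Finite.of_surjective (QuotientAddGroup.mk' (mulRange M n)).toIntLinearMap
      (QuotientAddGroup.mk'_surjective _)
  refine AddCommGroup.finite_of_fg_isAddTorsion _ fun x => ?_
  obtain ⟨a, rfl⟩ := QuotientAddGroup.mk'_surjective _ x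
  refine isOfFinAddOrder_iff_nsmul_eq_zero.mpr ⟨n, hn, ?_⟩
  rw [← map_nsmul]
  exact (QuotientAddGroup.eq_zero_iff _).mpr ⟨a, rfl⟩

theorem eq_zero_of_torsion {A : Type u} [CommRing A] {M : Type} [AddCommGroup M] (hM : AddGroup.FG M)
    (z : MonoidAlgebra A (Multiplicative M))
    (h : ∀ n : ℕ, 0 < n → MonoidAlgebra.mapDomainRingHom A
      (AddMonoidHom.toMultiplicative (QuotientAddGroup.mk' (mulRange M n))) z = 0) : z = 0 := by
  classical
  haveI : Group.FG (Multiplicative M) := AddGroup.fg_iff_mul_fg.mp hM
  refine MonoidAlgebra.ext (Finsupp.ext fun g => ?_)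
  by_contra hg
  obtain ⟨n, hn, hsep⟩ := SGA3b53.exists_separating (z.coeff.support.image fun g' => g' / g)
  let π : Multiplicative M →* Multiplicative (M ⧸ mulRange M n) :=
    AddMonoidHom.toMultiplicative (QuotientAddGroup.mk' (mulRange M n))
  have h1 := congrArg (fun q => q.coeff (π g)) (h n hn)
  have h2 : (z.coeff.mapDomain π) (π g) = z.coeff g := by
    rw [Finsupp.mapDomain, Finsupp.sum_apply, Finsupp.sum]
    rw [Finset.sum_eq_single g]
    · rw [Finsupp.single_eq_same]
    · intro g' hg' hne
      refine Finsupp.single_eq_of_ne fun e => ?_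
      refine hsep (g' / g) (Finset.mem_image_of_mem _ hg') (by rwa [Ne, div_eq_one]) ?_
      have e1 : π (g' / g) = 1 := by rw [map_div, ← e, div_self']
      obtain ⟨b, hb⟩ := (QuotientAddGroup.eq_zero_iff (Multiplicative.toAdd (g' / g))).mp
        (congrArg Multiplicative.toAdd e1)
      exact ⟨Multiplicative.ofAdd b, congrArg Multiplicative.ofAdd hb⟩
    · intro hn'
      rw [Finsupp.notMem_support_iff.mp hn', Finsupp.single_zero, Finsupp.zero_apply]
  exact hg (h2.symm.trans h1)

variable {S : Scheme.{u}}

theorem evalDS_DSmap {M N : Type} [AddCommGroup M] [AddCommGroup N] (φ : M →+ N) {Y Z : Over S}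
    [IsAffine Y.left] (z : Z ⟶ Y) (t : Z ⟶ Red.DS S N) (v : DSRing Y M) :
    evalDS z (t ≫ Red.DSmap S φ) v =
      evalDS z t (MonoidAlgebra.mapDomainRingHom (Gam Y) (AddMonoidHom.toMultiplicative φ) v) := by
  induction v using MonoidAlgebra.induction_linear with
  | zero => simp
  | add a b ha hb => simp only [map_add, ha, hb]
  | single g r =>
    obtain ⟨m, rfl⟩ := Multiplicative.ofAdd.surjective g
    show _ = evalDS z t (MonoidAlgebra.mapDomain _ _)
    rw [MonoidAlgebra.mapDomain_single, evalDS_single]
    exact (congrArg (z.left.appTop r * ·) (dsFn_DSmap φ t m)).trans (evalDS_single z t (φ m) r).symm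

end Groth.Agent.Cent38
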