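import Groth.Agent.Cent38.Rigid
import Groth.Agent.RedPts82.EqLocus
import Groth.Agent.RedPts82.DSHomLoc
import Groth.Agent.RedPts82.HomExtendMult

/-!
Central subgroups of multiplicative type containing one another over a point do so near it.
-/

set_option autoImplicit false
set_option linter.style.haveILetI false
universe u

open CategoryTheory MonoidalCategory CartesianMonoidalCategory MonObj GrpObj AlgebraicGeometry
open CategoryTheory.Limits
open Groth.Agent.RedPts82

noncomputable section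

namespace Groth.Agent.Cent38

variable {S : Scheme.{u}} {G : Over S} [GrpObj G]

theorem exists_to_residue [IsAffine S] (w : S) (Z : Over S)
    (hZ : OverPrime (S.isoSpec.hom w : PrimeSpectrum Γ(S, ⊤)).asIdeal Z) :
    Nonempty (Z ⟶ Over.mk (S.fromSpecResidueField w)) := by
  obtain ⟨hZaff, hkill, hunit⟩ := hZ
  let p : Ideal Γ(S, ⊤) := (S.isoSpec.hom w : PrimeSpectrum Γ(S, ⊤)).asIdeal
  haveI : p.IsPrime := (S.isoSpec.hom w : PrimeSpectrum Γ(S, ⊤)).isPrime
  let ψ : Γ(S, ⊤) →+* Γ(Z.left, ⊤) := Z.hom.appTop.hom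
  have hker : p ≤ RingHom.ker ψ := (Ideal.map_eq_bot_iff_le_ker _).mp hkill
  let K := FractionRing (Γ(S, ⊤) ⧸ p)
  let ρ : Γ(S, ⊤) →+* K := (algebraMap _ _).comp (Ideal.Quotient.mk p)
  let χ : K →+* Γ(Z.left, ⊤) := IsLocalization.lift (M := nonZeroDivisors (Γ(S, ⊤) ⧸ p))
    (g := Ideal.Quotient.lift p ψ hker) (by
      rintro ⟨v, hv⟩
      obtain ⟨r, rfl⟩ := Ideal.Quotient.mk_surjective v
      exact hunit r fun hr => nonZeroDivisors.ne_zero hv (Ideal.Quotient.eq_zero_iff_mem.mpr hr))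
  have hχ : χ.comp ρ = ψ := by
    rw [← RingHom.comp_assoc, IsLocalization.lift_comp, Ideal.Quotient.lift_comp_mk]
  let gK : Spec (CommRingCat.of K) ⟶ S := Spec.map (CommRingCat.ofHom ρ) ≫ S.isoSpec.inv
  have hgK : gK (IsLocalRing.closedPoint K) = w := by
    have e1 : Spec.map (CommRingCat.ofHom ρ) (IsLocalRing.closedPoint K) = S.isoSpec.hom w := by
      refine PrimeSpectrum.ext (Ideal.ext fun a => ?_)
      show ρ a ∈ IsLocalRing.maximalIdeal K ↔ a ∈ p
      rw [IsLocalRing.maximalIdeal_eq_bot, Ideal.mem_bot]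
      show algebraMap (Γ(S, ⊤) ⧸ p) K (Ideal.Quotient.mk p a) = 0 ↔ _
      rw [map_eq_zero_iff _ (IsFractionRing.injective _ _), Ideal.Quotient.eq_zero_iff_mem]
    show (Spec.map (CommRingCat.ofHom ρ) ≫ S.isoSpec.inv) _ = w
    rw [Scheme.Hom.comp_apply, e1, ← Scheme.Hom.comp_apply, Iso.hom_inv_id]
    rfl
  have hgK' : ∃ k : Spec (CommRingCat.of K) ⟶ Spec (S.residueField w), k ≫ S.fromSpecResidueField w = gK := by
    have h := (Scheme.SpecToEquivOfField K S).symm_apply_apply gK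
    obtain ⟨⟨s, f⟩, hs⟩ : ∃ x, x = Scheme.SpecToEquivOfField K S gK := ⟨_, rfl⟩
    have hsw : s = w := (congrArg Sigma.fst hs).trans hgK
    rw [← hs] at h
    subst hsw
    exact ⟨Spec.map f, h⟩
  choose k hk using hgK'
  exact ⟨Over.homMk (Z.left.toSpecΓ ≫ Spec.map (CommRingCat.ofHom χ) ≫ k) (by
    show (Z.left.toSpecΓ ≫ Spec.map (CommRingCat.ofHom χ) ≫ k) ≫ S.fromSpecResidueField w = Z.hom
    rw [Category.assoc, Category.assoc, hk]
    show _ ≫ _ ≫ Spec.map (CommRingCat.ofHom ρ) ≫ _ = _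
    rw [← Spec.map_comp_assoc, ← CommRingCat.ofHom_comp, hχ]
    simp only [ψ, CommRingCat.ofHom_hom, ← Scheme.toSpecΓ_naturality_assoc, Scheme.toSpecΓ_isoSpec_inv]
    exact Category.comp_id _)⟩

/-- The ideal of a section of a scheme of finite type is finitely generated. -/
theorem unitIdeal_fg [IsAffine S] {V : Over S} [IsAffine V.left] [LocallyOfFiniteType V.hom]
    (e₀ : 𝟙_ (Over S) ⟶ V) : (unitIdeal e₀).FG := by
  classical
  letI algV : Algebra Γ(S, ⊤) (Gam V) := V.hom.appTop.hom.toAlgebra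
  let ε : Gam V →ₐ[Γ(S, ⊤)] Γ(S, ⊤) :=
    { e₀.left.appTop.hom with
      commutes' := fun r => by
        show (e₀.left ≫ V.hom).appTop r = r
        rw [Over.w e₀]
        rfl }
  obtain ⟨T, hT⟩ : (⊤ : Subalgebra Γ(S, ⊤) (Gam V)).FG :=
    ((HasRingHomProperty.iff_of_isAffine (P := @LocallyOfFiniteType)).mp
      ‹LocallyOfFiniteType V.hom› : Algebra.FiniteType Γ(S, ⊤) (Gam V)).out
  let d : Gam V → Gam V := fun a => a - algebraMap _ _ (ε a)
  refine ⟨T.image d, le_antisymm (Ideal.span_le.mpr ?_) fun a ha => ?_⟩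
  · intro x hx
    obtain ⟨t, -, rfl⟩ := Finset.mem_image.mp hx
    show ε (d t) = 0
    simp only [d, map_sub, AlgHom.commutes, Algebra.algebraMap_self, RingHom.id_apply, sub_self]
  · have hall : ∀ a, d a ∈ Ideal.span ((T.image d : Finset (Gam V)) : Set (Gam V)) := by
      intro a
      have ha : a ∈ Algebra.adjoin Γ(S, ⊤) (T : Set (Gam V)) := by rw [hT]; trivial
      induction ha using Algebra.adjoin_induction with
      | mem b hb => exact Ideal.subset_span (Finset.mem_image_of_mem _ hb)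
      | algebraMap r =>
        simp only [d, AlgHom.commutes, Algebra.algebraMap_self, RingHom.id_apply, sub_self]
        exact zero_mem _
      | add b c _ _ hb hc =>
        rw [show d (b + c) = d b + d c by simp only [d, map_add]; ring]
        exact add_mem hb hc
      | mul b c _ _ hb hc =>
        rw [show d (b * c) = c * d b + algebraMap _ _ (ε b) * d c by simp only [d, map_mul]; ring]
        exact add_mem (Ideal.mul_mem_left _ _ hb) (Ideal.mul_mem_left _ _ hc)
    have h : d a = a := by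
      show a - algebraMap _ _ (ε a) = a
      rw [show ε a = 0 from ha, map_zero, sub_zero]
    exact h ▸ hall a


set_option maxHeartbeats 2000000 in
/-- Two homomorphisms from a diagonalisable group, one of them central over a point, equal over this point are
equal near it. -/
theorem exists_nhd_eq [IsAffine S] {M : Type} [AddCommGroup M] (hM : AddGroup.FG M)
    (hG : IsLocallyNoetherian S ∨ LocallyOfFiniteType G.hom) (u₁ u₂ : Red.DS S M ⟶ G) [IsMonHom u₁]
    [IsMonHom u₂] (w : S) (hc : Cent (S.fromSpecResidueField w) u₁)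
    (h0 : ∀ (X : Over S) (_ : X ⟶ Over.mk (S.fromSpecResidueField w)) (t : X ⟶ Red.DS S M),
      t ≫ u₁ = t ≫ u₂) :
    ∃ D : S.Opens, w ∈ D ∧ ∀ (X : Over S) (_ : X ⟶ Over.mk D.ι) (t : X ⟶ Red.DS S M), t ≫ u₁ = t ≫ u₂ := by
  let e : S ⟶ G.left := η[G].left
  obtain ⟨U, hU, hwU, -⟩ := exists_isAffineOpen_mem_and_subset (x := e w) (U := (⊤ : G.left.Opens)) trivial
  obtain ⟨W, hW, hwW, hWU⟩ := exists_isAffineOpen_mem_and_subset (x := w) (U := e ⁻¹ᵁ U) hwU
  haveI : IsAffine (W : Scheme.{u}) := hW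
  let ψ := W.ι
  let w' : (W : Scheme.{u}) := ⟨w, hwW⟩
  let U' : Over S := Over.mk (U.ι ≫ G.hom)
  let jU : U' ⟶ G := Over.homMk U.ι rfl
  haveI : IsAffine U'.left := hU
  haveI : IsOpenImmersion jU.left := inferInstanceAs (IsOpenImmersion U.ι)
  haveI : IsOpenImmersion ((Over.pullback ψ).map jU).left :=
    MorphismProperty.baseChange_map ψ jU inferInstance
  haveI : IsAffine ((Over.pullback ψ).obj U').left := by
    show IsAffine (pullback U'.hom ψ)
    infer_instance
  have hr : Set.range (W.ι ≫ e).base ⊆ Set.range U.ι.base := by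
    rintro _ ⟨z, rfl⟩
    rw [Scheme.Opens.range_ι]
    exact hWU z.2
  let eU : (Over.map ψ).obj (𝟙_ (Over (W : Scheme.{u}))) ⟶ U' :=
    Over.homMk (IsOpenImmersion.lift U.ι (W.ι ≫ e) hr) (by
      show IsOpenImmersion.lift U.ι (W.ι ≫ e) hr ≫ U.ι ≫ G.hom = 𝟙 _ ≫ ψ
      rw [IsOpenImmersion.lift_fac_assoc, Category.assoc, show e ≫ G.hom = 𝟙 S from Over.w η[G]]
      exact (Category.comp_id _).trans (Category.id_comp _).symm)
  have heU : ofBase ψ eU ≫ (Over.pullback ψ).map jU = η[Red.bc ψ G] := by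
    refine toBase_injective ψ ?_
    rw [toBase_comp_map, toBase_ofBase, MonObj.one_eq_one, toBase_one, Hom.one_def]
    refine Over.OverMorphism.ext ?_
    show IsOpenImmersion.lift U.ι (W.ι ≫ e) hr ≫ U.ι = _
    rw [IsOpenImmersion.lift_fac, Over.comp_left]
    congr 1
  obtain ⟨a, ha, hi, -⟩ := exists_ds_bc ψ M
  haveI := ha
  haveI := hi
  have hs : ∀ (X : Over (W : Scheme.{u})) (h : X ⟶ Red.bc ψ (Red.DS S M)), ∃ t, t ≫ a = h :=
    fun X h => ⟨h ≫ inv a, by rw [Category.assoc, IsIso.inv_hom_id, Category.comp_id]⟩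
  let p : Ideal Γ(W, ⊤) := ((W : Scheme.{u}).isoSpec.hom w' : PrimeSpectrum Γ(W, ⊤)).asIdeal
  haveI : p.IsPrime := ((W : Scheme.{u}).isoSpec.hom w' : PrimeSpectrum Γ(W, ⊤)).isPrime
  let b₁ := a ≫ (Over.pullback ψ).map u₁
  let b₂ := a ≫ (Over.pullback ψ).map u₂
  have hfg : IsNoetherianRing Γ(W, ⊤) ∨ (unitIdeal (ofBase ψ eU)).FG := by
    rcases hG with h | h
    · exact .inl (IsLocallyNoetherian.component_noetherian ⟨⊤, isAffineOpen_top _⟩)
    · haveI : LocallyOfFiniteType (Red.bc ψ G).hom :=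
        MorphismProperty.pullback_snd (P := @LocallyOfFiniteType) _ _ h
      haveI : LocallyOfFiniteType ((Over.pullback ψ).obj U').hom := by
        rw [← Over.w ((Over.pullback ψ).map jU)]; infer_instance
      exact .inr (unitIdeal_fg _)
  have hcW : Cent ((W : Scheme.{u}).fromSpecResidueField w') b₁ :=
    (cent_bc_iff ψ _ a hs).mpr ((cent_residue_iff ψ w').mpr hc)
  obtain ⟨r, hr', hkey⟩ := exists_nhd_eq_chart (ofBase ψ eU) ((Over.pullback ψ).map jU) heU (p := p) hM b₁ b₂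
    hfg (fun Z hZ Y q g t => hcW Y (q ≫ (exists_to_residue w' Z hZ).some) g t) (fun Z hZ Y q t => by
      rw [MonObj.comp_mul, GrpObj.comp_inv, mul_inv_eq_one]
      apply toBase_injective ψ
      simp only [b₁, b₂, ← Category.assoc, toBase_comp_map]
      let z := q ≫ (exists_to_residue w' Z hZ).some
      exact h0 _ (Over.homMk (z.left ≫ Spec.map (ψ.residueFieldMap w')) (by
        show (z.left ≫ Spec.map (ψ.residueFieldMap w')) ≫ S.fromSpecResidueField w = Y.hom ≫ ψ
        refine (Category.assoc _ _ _).trans ((congrArg (z.left ≫ ·)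
          (Scheme.Hom.SpecMap_residueFieldMap_fromSpecResidueField ψ w')).trans ?_)
        exact (Category.assoc _ _ _).symm.trans (congrArg (· ≫ ψ) (Over.w z)))) _)
  let D₀ : (W : Scheme.{u}).Opens := (W : Scheme.{u}).basicOpen r
  have hwD : w' ∈ D₀ := by
    show w' ∈ (W : Scheme.{u}).basicOpen r
    rw [← Scheme.toSpecΓ_preimage_basicOpen]
    exact hr'
  refine ⟨W.ι ''ᵁ D₀, ⟨w', hwD, rfl⟩, fun X q t => ?_⟩
  have hrange : Set.range X.hom.base ⊆ Set.range (D₀.ι ≫ W.ι).base := by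
    rintro _ ⟨x, rfl⟩
    rw [← Over.w q]
    obtain ⟨y, hy, e⟩ := (q.left x).2
    exact ⟨⟨y, hy⟩, e⟩
  let l : X.left ⟶ (D₀ : Scheme.{u}) := IsOpenImmersion.lift (D₀.ι ≫ W.ι) X.hom hrange
  obtain ⟨α, -⟩ := exists_over_iso ψ (X := X) (l ≫ D₀.ι) (by
    rw [Category.assoc]; exact IsOpenImmersion.lift_fac _ _ _)
  obtain ⟨t', ht'⟩ := hs _ (ofBase ψ (α.hom ≫ t))
  have hu : IsUnit ((Over.mk (l ≫ D₀.ι) : Over (W : Scheme.{u})).hom.appTop r) := by
    refine isUnit_appTop _ (eq_top_iff.mpr fun x _ => ?_)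
    refine (Scheme.preimage_basicOpen_top (l ≫ D₀.ι) r).le ?_
    exact (l x).2
  have h1 := hkey _ hu _ (𝟙 _) t'
  rw [MonObj.comp_mul, GrpObj.comp_inv, mul_inv_eq_one] at h1
  have h2 := congrArg (toBase ψ) h1
  simp only [b₁, b₂, ← Category.assoc, ht', toBase_comp_map, toBase_ofBase] at h2
  simpa only [Category.assoc, cancel_epi] using h2

set_option maxHeartbeats 2000000 in
/-- A diagonalisable subgroup central over a point and contained over it in another one is contained in it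
near this point. -/
theorem exists_nhd_sub {W : Scheme.{u}} [IsAffine W] {G : Over W} [GrpObj G]
    (hG : IsLocallyNoetherian W ∨ LocallyOfFiniteType G.hom) {M N : Type} [AddCommGroup M] [AddCommGroup N]
    (hM : AddGroup.FG M) (hN : AddGroup.FG N) (j : Red.DS W M ⟶ G) [IsMonHom j] (j' : Red.DS W N ⟶ G)
    [IsMonHom j'] [Mono j'] (w : W) (hc : Cent (W.fromSpecResidueField w) j)
    (hsub : ∀ (X : Over W) (_ : X ⟶ Over.mk (W.fromSpecResidueField w)) (t : X ⟶ Red.DS W M),
      ∃ t', t' ≫ j' = t ≫ j) :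
    ∃ D : W.Opens, w ∈ D ∧ ∀ (X : Over W) (_ : X ⟶ Over.mk D.ι) (t : X ⟶ Red.DS W M),
      ∃ t', t' ≫ j' = t ≫ j := by
  let R := Spec (W.residueField w)
  let ψ : R ⟶ W := W.fromSpecResidueField w
  obtain ⟨a, ha, hai, hakey⟩ := exists_ds_bc ψ M
  obtain ⟨b, hb, hbi, hbkey⟩ := exists_ds_bc ψ N
  haveI := ha
  haveI := hai
  haveI := hb
  haveI := hbi
  obtain ⟨t₀, ht₀⟩ := hsub ((Over.map ψ).obj (Red.DS R M)) (Over.homMk (Red.DS R M).hom rfl) (toBase ψ a)
  let jR := a ≫ (Over.pullback ψ).map j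
  let jR' := b ≫ (Over.pullback ψ).map j'
  obtain ⟨q, hq⟩ : ∃ q, q ≫ jR' = jR := ⟨ofBase ψ t₀ ≫ inv b, toBase_injective ψ (by
    simp only [jR, jR', Category.assoc, IsIso.inv_hom_id_assoc]
    rw [toBase_comp_map, toBase_comp_map, toBase_ofBase, ht₀])⟩
  haveI : IsMonHom q := isMonHom_of_points _ fun Z x y => by
    rw [← cancel_mono jR', MonObj.mul_comp _ _ jR', Category.assoc, Category.assoc, Category.assoc, hq,
      MonObj.mul_comp _ _ jR]
  haveI : IsAffine R := inferInstanceAs (IsAffine (Spec _))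
  obtain ⟨D, φ, hwD, hD⟩ := exists_ds_hom_loc hN q (IsLocalRing.closedPoint (W.residueField w))
  let u₂ : Red.DS W M ⟶ G := Red.DSmap W φ ≫ j'
  haveI : IsMonHom u₂ := isMonHom_of_points _ fun Z x y => by
    simp only [u₂, ← Category.assoc, MonObj.mul_comp _ _ (Red.DSmap W φ), MonObj.mul_comp _ _ j']
  obtain ⟨D', hwD', hD'⟩ := exists_nhd_eq hM hG j u₂ w hc fun X p t => by
    obtain ⟨α, -⟩ := exists_over_iso ψ p.left (Over.w p)
    let t' : Over.mk p.left ⟶ Red.DS R M := ofBase ψ (α.hom ≫ t) ≫ inv a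
    have ht : toBase ψ (t' ≫ a) = α.hom ≫ t := by
      simp only [t', Category.assoc, IsIso.inv_hom_id, Category.comp_id, toBase_ofBase]
    have h1 : (t' ≫ Red.DSmap R φ) ≫ jR' = t' ≫ jR := by
      rw [← hq, ← Category.assoc t' q]
      refine congrArg (· ≫ jR') (hD _ (fun x => ?_) t').symm
      exact (Subsingleton.elim (α := PrimeSpectrum (W.residueField w)) _ _ :
        IsLocalRing.closedPoint (W.residueField w) = (Over.mk p.left : Over R).hom x) ▸ hwD
    have h2 := congrArg (toBase ψ) h1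
    simp only [jR, jR', ← Category.assoc, toBase_comp_map, ht] at h2
    have h3 : toBase ψ ((t' ≫ Red.DSmap R φ) ≫ b) = (α.hom ≫ t) ≫ Red.DSmap W φ := dsFn_injective fun n => by
      rw [hbkey, dsFn_DSmap, dsFn_DSmap, ← hakey _ t', ht]
    rw [h3] at h2
    simp only [Category.assoc, cancel_epi] at h2
    exact h2.symm
  exact ⟨D', hwD', fun X p t => ⟨t ≫ Red.DSmap W φ, by rw [Category.assoc]; exact (hD' X p t).symm⟩⟩

end Groth.Agent.Cent38
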