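import Groth.Agent.RedPts82.TrivialAction
import Groth.Agent.RedPts82.TrivialLocal

/-!
Conjugation by a diagonalisable group on the thickenings of the unit section: if it is trivial on the first
order thickening over a fibre, it is trivial on all thickenings near this fibre.
-/

set_option autoImplicit false
set_option linter.style.haveILetI false
universe u

open CategoryTheory MonoidalCategory CartesianMonoidalCategory MonObj GrpObj AlgebraicGeometry
open CategoryTheory.Limits
open Groth.Agent.RedPts82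

noncomputable section

namespace Groth.Agent.Cent38

variable {S : Scheme.{u}} {G : Over S} [GrpObj G] {M : Type} [AddCommGroup M] {V : Over S} [IsAffine V.left]

/-- A point killing an ideal factors through the closed subobject it defines. -/
theorem exists_factor_red {Z : Over S} (z : Z ⟶ V) (J : Ideal (Gam V)) (h : ∀ a ∈ J, z.left.appTop a = 0) :
    ∃ v : Z ⟶ redObj V J, v ≫ redMap V J = z := by
  let ψ : CommRingCat.of (Gam V ⧸ J) ⟶ Γ(Z.left, ⊤) :=
    CommRingCat.ofHom (Ideal.Quotient.lift J z.left.appTop.hom h)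
  have e : (Z.left.toSpecΓ ≫ Spec.map ψ) ≫ (redMap V J).left = z.left := by
    show (Z.left.toSpecΓ ≫ Spec.map ψ) ≫ Spec.map (CommRingCat.ofHom (Ideal.Quotient.mk J)) ≫
      V.left.isoSpec.inv = z.left
    rw [Category.assoc, ← Spec.map_comp_assoc]
    have : CommRingCat.ofHom (Ideal.Quotient.mk J) ≫ ψ = z.left.appTop := by
      ext a
      rfl
    rw [this, ← Scheme.toSpecΓ_naturality_assoc, Scheme.toSpecΓ_isoSpec_inv]
    exact Category.comp_id _
  refine ⟨Over.homMk (Z.left.toSpecΓ ≫ Spec.map ψ) ?_, Over.OverMorphism.ext e⟩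
  show (Z.left.toSpecΓ ≫ Spec.map ψ) ≫ (redMap V J).left ≫ V.hom = Z.hom
  rw [← Category.assoc, e]
  exact Over.w z

theorem redMap_appTop_zero {J : Ideal (Gam V)} {a : Gam V} (ha : a ∈ J) : (redMap V J).left.appTop a = 0 :=
  ((redMap_appTop_eq_iff V J a 0).mpr (by rwa [sub_zero])).trans (map_zero _)

theorem redMap_surjective' (J : Ideal (Gam V)) (b : Gam (redObj V J)) :
    ∃ a, (redMap V J).left.appTop a = b := by
  let e := (Scheme.ΓSpecIso (CommRingCat.of (Gam V ⧸ J))).commRingCatIsoToRingEquiv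
  obtain ⟨a, ha⟩ := Ideal.Quotient.mk_surjective (e b)
  exact ⟨a, (redMap_appTop V J a).trans ((congrArg e.symm ha).trans (e.symm_apply_apply b))⟩

theorem mono_redMap (J : Ideal (Gam V)) : Mono (redMap V J) := by
  haveI : Mono (Spec.map (CommRingCat.ofHom (Ideal.Quotient.mk J))) :=
    haveI := IsClosedImmersion.spec_of_surjective (CommRingCat.ofHom (Ideal.Quotient.mk J))
      Ideal.Quotient.mk_surjective
    inferInstance
  haveI : Mono (redMap V J).left :=
    inferInstanceAs (Mono (Spec.map (CommRingCat.ofHom (Ideal.Quotient.mk J)) ≫ V.left.isoSpec.inv))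
  exact Over.mono_of_mono_left _

/-- The coordinates of a coaction. -/
def co {X : Over S} [IsAffine X.left] (c : polyDS X M ⟶ X) : Gam X →+* DSRing X M :=
  (polyCoordEquiv X M).symm.toRingHom.comp c.left.appTop.hom

theorem comp'_eq {X : Over S} [IsAffine X.left] (c : polyDS X M ⟶ X) (g : Multiplicative M) (a : Gam X) :
    comp' c g a = (co c a).coeff g := rfl

theorem mem_map_single_iff {A : Type u} [CommRing A] (J : Ideal A) (z : MonoidAlgebra A (Multiplicative M)) :
    z ∈ J.map (MonoidAlgebra.singleOneRingHom : A →+* MonoidAlgebra A (Multiplicative M)) ↔ ∀ g, z.coeff g ∈ J := by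
  constructor
  · intro hz
    suffices ∀ w g, (w * z).coeff g ∈ J by intro g; simpa using this 1 g
    refine Submodule.span_induction (p := fun x _ => ∀ w g, (w * x).coeff g ∈ J) ?_ ?_ ?_ ?_ hz
    · rintro _ ⟨a, ha, rfl⟩ w g
      rw [_root_.mul_comm]
      show (MonoidAlgebra.single 1 a * w).coeff g ∈ J
      rw [MonoidAlgebra.single_one_mul_apply]
      exact J.mul_mem_right _ ha
    · intro w g; simp
    · intro x y _ _ hx hy w g
      rw [mul_add, MonoidAlgebra.coeff_add, Finsupp.add_apply]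
      exact J.add_mem (hx w g) (hy w g)
    · intro r x _ hx w g
      rw [smul_eq_mul, ← _root_.mul_assoc]
      exact hx _ g
  · intro h
    rw [← MonoidAlgebra.sum_coeff_single z]
    refine Ideal.sum_mem _ fun g _ => ?_
    rw [show MonoidAlgebra.single g (z.coeff g) = MonoidAlgebra.single g 1 * MonoidAlgebra.singleOneRingHom (z.coeff g)
      by simp [MonoidAlgebra.singleOneRingHom]]
    exact Ideal.mul_mem_left _ _ (Ideal.mem_map_of_mem _ (h g))

variable (e₀ : 𝟙_ (Over S) ⟶ V)

/-- The ideal of the unit section. -/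
def unitIdeal : Ideal (Gam V) := RingHom.ker e₀.left.appTop.hom

theorem eq_unit_of_kills {Y : Over S} (y : Y ⟶ V) (h : ∀ a ∈ unitIdeal e₀, y.left.appTop a = 0) :
    y = toUnit Y ≫ e₀ := by
  refine hom_eq_of_appTop (CommRingCat.hom_ext (RingHom.ext fun a => ?_))
  let r := e₀.left.appTop a
  have h1 : e₀.left.appTop (V.hom.appTop r) = r := by
    show (e₀.left ≫ V.hom).appTop r = r
    rw [Over.w e₀]
    rfl
  have h2 : a - V.hom.appTop r ∈ unitIdeal e₀ := by
    show e₀.left.appTop (a - V.hom.appTop r) = 0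
    rw [map_sub, h1, sub_self]
  have h3 := h _ h2
  rw [map_sub, sub_eq_zero] at h3
  have h4 : y.left.appTop (V.hom.appTop r) = Y.hom.appTop r := by
    show (y.left ≫ V.hom).appTop r = _
    rw [Over.w y]
  show y.left.appTop a = (toUnit Y ≫ e₀).left.appTop a
  rw [h3, h4]
  rfl

variable [IsAffine S] (j : Red.DS S M ⟶ G) (jV : V ⟶ G)

/-- The conjugation fixes the points killing an ideal, over an object. -/
def Fixed (J : Ideal (Gam V)) (Z : Over S) : Prop :=
  ∀ (Y : Over S) (_ : Y ⟶ Z) (y : Y ⟶ V), (∀ a ∈ J, y.left.appTop a = 0) → ∀ t : Y ⟶ Red.DS S M,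
    CartesianMonoidalCategory.lift t (y ≫ jV) ≫ conjAct j = y ≫ jV

omit [IsAffine V.left] [IsAffine S] in
theorem lift_one_conjAct {Y : Over S} (t : Y ⟶ Red.DS S M) :
    CartesianMonoidalCategory.lift t (1 : Y ⟶ G) ≫ conjAct j = 1 := by
  rw [lift_conjAct, _root_.mul_one, mul_inv_cancel]

variable [IsMonHom j] [IsOpenImmersion jV.left] (he₀ : e₀ ≫ jV = η[G])

include he₀ in
omit [IsAffine S] [IsAffine V.left] [IsMonHom j] [IsOpenImmersion jV.left] in
theorem unit_comp (Y : Over S) : toUnit Y ≫ e₀ ≫ jV = (1 : Y ⟶ G) := by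
  rw [he₀, Hom.one_def]

include he₀ in
set_option maxHeartbeats 1000000 in
/-- The coaction on a thickening of the unit section. -/
theorem exists_thick (n : ℕ) :
    ∃ c : polyDS (redObj V (unitIdeal e₀ ^ (n + 1))) M ⟶ redObj V (unitIdeal e₀ ^ (n + 1)),
      c ≫ redMap V _ ≫ jV = CartesianMonoidalCategory.lift (polyTu _ M) (polyProj _ M ≫ redMap V _ ≫ jV) ≫ conjAct j ∧
      (∀ e : redObj V (unitIdeal e₀ ^ (n + 1)) ⟶ polyDS (redObj V (unitIdeal e₀ ^ (n + 1))) M,
        e ≫ polyProj _ M = 𝟙 _ → e ≫ polyTu _ M = 1 → e ≫ c = 𝟙 _) ∧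
      (∀ (mm qq : polyDS (polyDS (redObj V (unitIdeal e₀ ^ (n + 1))) M) M ⟶ polyDS (redObj V (unitIdeal e₀ ^ (n + 1))) M)
        (L : polyDS (polyDS (redObj V (unitIdeal e₀ ^ (n + 1))) M) M ⟶ polyDS (redObj V (unitIdeal e₀ ^ (n + 1))) M),
        mm ≫ polyProj _ M = polyProj _ M ≫ polyProj _ M →
        mm ≫ polyTu _ M = polyTu _ M * (polyProj _ M ≫ polyTu _ M) →
        L ≫ polyProj _ M = polyProj _ M ≫ c → L ≫ polyTu _ M = polyTu _ M →
        L ≫ c = mm ≫ c) ∧
      ∀ b ∈ (unitIdeal e₀).map (redMap V (unitIdeal e₀ ^ (n + 1))).left.appTop.hom,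
        co c b ∈ ((unitIdeal e₀).map (redMap V (unitIdeal e₀ ^ (n + 1))).left.appTop.hom).map
          MonoidAlgebra.singleOneRingHom := by
  set I := unitIdeal e₀ with hI
  let X := redObj V (I ^ (n + 1))
  let m : X ⟶ V := redMap V _
  let P := polyDS X M
  let F : P ⟶ G := CartesianMonoidalCategory.lift (polyTu X M) (polyProj X M ≫ m ≫ jV) ≫ conjAct j
  have hr : Set.range F.left.base ⊆ Set.range jV.left.base := by
    rintro _ ⟨y, rfl⟩
    let R : Over S := Over.mk (P.left.fromSpecResidueField y ≫ P.hom)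
    let e : R ⟶ P := Over.homMk (P.left.fromSpecResidueField y) rfl
    let z : R ⟶ V := e ≫ polyProj X M ≫ m
    have hz : z = toUnit R ≫ e₀ := eq_unit_of_kills e₀ z fun a ha => by
      haveI : IsReduced R.left := inferInstanceAs (IsReduced (Spec _))
      refine eq_zero_of_pow_eq_zero (n := n + 1) ?_
      rw [← map_pow]
      show (e ≫ polyProj X M).left.appTop (m.left.appTop (a ^ (n + 1))) = 0
      rw [redMap_appTop_zero (Ideal.pow_mem_pow ha _), map_zero]
    have h1 : e ≫ F = toUnit R ≫ e₀ ≫ jV := by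
      show e ≫ CartesianMonoidalCategory.lift _ _ ≫ _ = _
      rw [comp_lift_assoc, show e ≫ polyProj X M ≫ m ≫ jV = z ≫ jV by simp [z], hz, Category.assoc,
        unit_comp e₀ jV he₀, lift_one_conjAct]
    have he : e.left (IsLocalRing.closedPoint _) = y := Scheme.fromSpecResidueField_apply y _
    refine ⟨(toUnit R ≫ e₀).left (IsLocalRing.closedPoint _), ?_⟩
    have h2 := congrArg (fun k : R ⟶ G => k.left (IsLocalRing.closedPoint _)) h1
    simp only [Over.comp_left, Scheme.Hom.comp_apply, he] at h2 ⊢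
    exact h2.symm
  haveI : Mono jV := Over.mono_of_mono_left jV
  let F' : P ⟶ V := Over.homMk (IsOpenImmersion.lift jV.left F.left hr) (by
    rw [← Over.w jV, IsOpenImmersion.lift_fac_assoc, Over.w F])
  have hF' : F' ≫ jV = F := Over.OverMorphism.ext (IsOpenImmersion.lift_fac _ _ hr)
  let K : Ideal (Gam P) := upIdeal X M (I.map m.left.appTop.hom)
  have hFI : ∀ a ∈ I, F'.left.appTop a ∈ K := by
    intro a ha
    let r₁ := redMap P K
    have hu : r₁ ≫ polyProj X M ≫ m = toUnit _ ≫ e₀ := eq_unit_of_kills e₀ _ fun b hb => by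
      show r₁.left.appTop ((polyProj X M).left.appTop (m.left.appTop b)) = 0
      exact redMap_appTop_zero (Ideal.mem_map_of_mem _ (Ideal.mem_map_of_mem _ hb))
    have h1 : r₁ ≫ F' = toUnit _ ≫ e₀ := by
      rw [← cancel_mono jV, Category.assoc, hF']
      show r₁ ≫ CartesianMonoidalCategory.lift _ _ ≫ _ = _
      rw [comp_lift_assoc, reassoc_of% hu, Category.assoc, unit_comp e₀ jV he₀, lift_one_conjAct]
    have h2 := congrArg (fun k => k.left.appTop a) h1
    have h3 : (toUnit (redObj P K) ≫ e₀).left.appTop a = 0 := by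
      show (toUnit (redObj P K)).left.appTop (e₀.left.appTop a) = 0
      rw [show e₀.left.appTop a = 0 from ha, map_zero]
    have h4 : r₁.left.appTop (F'.left.appTop a) = r₁.left.appTop 0 := by
      rw [map_zero, ← h3]; exact h2
    simpa using (redMap_appTop_eq_iff P K _ 0).mp h4
  obtain ⟨c, hc⟩ := exists_factor_red F' (I ^ (n + 1)) fun a ha => by
    have h1 : F'.left.appTop a ∈ K ^ (n + 1) := by
      have : I.map F'.left.appTop.hom ≤ K := Ideal.map_le_iff_le_comap.mpr hFI
      have h2 := Ideal.mem_map_of_mem F'.left.appTop.hom ha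
      rw [Ideal.map_pow] at h2
      exact Ideal.pow_right_mono this _ h2
    have hK : K ^ (n + 1) = ⊥ := by
      show (Ideal.map _ (Ideal.map _ _)) ^ (n + 1) = ⊥
      rw [← Ideal.map_pow, ← Ideal.map_pow,
        (Ideal.map_eq_bot_iff_le_ker _).mpr fun b hb => RingHom.mem_ker.mpr (redMap_appTop_zero hb), Ideal.map_bot]
    rwa [hK, Submodule.mem_bot] at h1
  haveI := mono_redMap (I ^ (n + 1))
  have hcm : c ≫ m ≫ jV = F := by rw [← Category.assoc, hc, hF']
  refine ⟨c, hcm, fun e h1 h2 => ?_, fun mm qq L h1 h2 h3 h4 => ?_, ?_⟩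
  · rw [← cancel_mono (m ≫ jV), Category.assoc, hcm, comp_lift_assoc, h2, reassoc_of% h1, Category.id_comp]
    exact conjAct_one j _ _
  · rw [← cancel_mono (m ≫ jV), Category.assoc, Category.assoc, hcm]
    have e3 : L ≫ polyProj X M ≫ m ≫ jV = polyProj _ M ≫ F := by
      rw [← Category.assoc, h3, Category.assoc, hcm]
    have e1 : mm ≫ polyProj X M ≫ m ≫ jV = polyProj _ M ≫ polyProj X M ≫ m ≫ jV := by
      rw [← Category.assoc, h1, Category.assoc]
    show L ≫ CartesianMonoidalCategory.lift _ _ ≫ _ = mm ≫ CartesianMonoidalCategory.lift _ _ ≫ _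
    rw [comp_lift_assoc, comp_lift_assoc, h4, e3, h2, e1, conjAct_assoc]
    show _ = _
    rw [show polyProj (polyDS X M) M ≫ F = _ from comp_lift_assoc _ _ _ _]
  · intro b hb
    have key : (I.map m.left.appTop.hom).map c.left.appTop.hom ≤ K := by
      rw [Ideal.map_map]
      refine Ideal.map_le_iff_le_comap.mpr fun a ha => ?_
      show c.left.appTop (m.left.appTop a) ∈ K
      have : (c ≫ m).left.appTop a = F'.left.appTop a := by rw [hc]
      exact this ▸ hFI a ha
    have h1 := Ideal.mem_map_of_mem (polyCoordEquiv X M).symm.toRingHom (key (Ideal.mem_map_of_mem _ hb))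
    refine SetLike.le_def.mp (le_of_eq ?_) h1
    show Ideal.map _ (Ideal.map _ _) = _
    rw [Ideal.map_map]
    congr 1
    refine RingHom.ext fun a => ?_
    show (polyCoordEquiv X M).symm ((polyProj X M).left.appTop a) = _
    rw [RingEquiv.symm_apply_eq, polyProj_appTop]
    rfl

end Groth.Agent.Cent38
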